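import Groth.Agent.CentLocusLib.Alg
import Groth.Agent.FibTrivLib.Scheme

/-!
Commutation of a diagonalisable group with the infinitesimal neighbourhoods of the unit section.
-/

set_option autoImplicit false

noncomputable section

universe u

open CategoryTheory CategoryTheory.Limits MonoidalCategory CartesianMonoidalCategory AlgebraicGeometry CoactBr
open scoped MonObj TensorProduct

namespace Groth.Agent.CentLocus

open Groth.Agent.FreeAct (DA bas IsAct co pr pr_left pr_right pr_assoc)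

attribute [local instance] CoactBr.braidedAlgSpecOf

variable {R : Type u} [CommRing R] {M : Type} [AddCommGroup M] {G : Over (Spec (CommRingCat.of R))} [GrpObj G]

/-- Commutation with the points over a ring over `k` which reduce to the unit modulo an ideal with `n`-th power
zero. -/
def InfR (v : sp R (DA R M) ⟶ G) (n : ℕ) {k : Type u} [CommRing k] (ψ : R →+* k) : Prop :=
  ∀ (T : Type u) [CommRing T] [Algebra R T] (g : k →+* T), g.comp ψ = algebraMap R T → ∀ J : Ideal T, J ^ n = ⊥ →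
    ∀ x : sp R T ⟶ G, pt (Ideal.Quotient.mkₐ R J) ≫ x = 1 →
      ∀ χ : DA R M →ₐ[R] T, (pt χ ≫ v) * x = x * (pt χ ≫ v)

theorem sp_hom_self : (sp R R).hom = 𝟙 (Spec (CommRingCat.of R)) := by
  show Spec.map (CommRingCat.ofHom (algebraMap R R)) = _
  rw [Algebra.algebraMap_self, CommRingCat.ofHom_id, Spec.map_id]

/-- An affine chart at the unit section. -/
theorem exists_chart [LocallyOfFiniteType G.hom] (V : G.left.Opens) (hV : IsAffineOpen V)
    (hη : Set.range (η[G] : 𝟙_ (Over (Spec (CommRingCat.of R))) ⟶ G).left ⊆ (V : Set G.left)) :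
    ∃ (A : Type u) (_ : CommRing A) (_ : Algebra R A) (ε : A →ₐ[R] R) (jA : sp R A ⟶ G),
      Algebra.FiniteType R A ∧ IsOpenImmersion jA.left ∧ Mono jA ∧ pt ε ≫ jA = 1 ∧
      ∀ (T : Type u) [CommRing T] [Algebra R T] (J : Ideal T), IsNilpotent J → ∀ x : sp R T ⟶ G,
        pt (Ideal.Quotient.mkₐ R J) ≫ x = 1 →
        ∃ φ : A →ₐ[R] T, x = pt φ ≫ jA ∧ ∀ a, ε a = 0 → φ a ∈ J := by
  let A : Type u := Γ(G.left, V)
  obtain ⟨c, hc⟩ := Spec.map_surjective (hV.fromSpec ≫ G.hom)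
  letI : Algebra R A := c.hom.toAlgebra
  let jA : sp R A ⟶ G := Over.homMk hV.fromSpec (by
    show hV.fromSpec ≫ G.hom = Spec.map (CommRingCat.ofHom c.hom)
    rw [← hc]
    rfl)
  let fs : Spec (CommRingCat.of A) ⟶ G.left := hV.fromSpec
  haveI : IsOpenImmersion fs := inferInstanceAs (IsOpenImmersion hV.fromSpec)
  haveI : IsOpenImmersion jA.left := inferInstanceAs (IsOpenImmersion fs)
  have hfs : Set.range fs = (V : Set G.left) := hV.range_fromSpec
  haveI : Mono jA := Over.mono_of_mono_left jA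
  have hfac : ∀ (T : Type u) [CommRing T] [Algebra R T] (x : sp R T ⟶ G),
      Set.range x.left ⊆ (V : Set G.left) → ∃ φ : A →ₐ[R] T, x = pt φ ≫ jA := by
    intro T _ _ x hx
    let l₀ : Spec (CommRingCat.of T) ⟶ Spec (CommRingCat.of A) := IsOpenImmersion.lift fs x.left (hfs ▸ hx)
    have hl₀ : l₀ ≫ fs = x.left := IsOpenImmersion.lift_fac _ _ _
    let l : sp R T ⟶ sp R A := Over.homMk l₀ (by
      refine Eq.trans ?_ (Over.w x)
      rw [← hl₀]
      exact (congrArg (l₀ ≫ ·) (Over.w jA)).symm.trans (Category.assoc _ _ _).symm)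
    obtain ⟨φ, hφ⟩ := DiagRep.exists_pt l
    exact ⟨φ, hφ ▸ Over.OverMorphism.ext hl₀.symm⟩
  have hone : ∀ (T : Type u) [CommRing T] [Algebra R T],
      Set.range (1 : sp R T ⟶ G).left ⊆ (V : Set G.left) := by
    intro T _ _
    rintro _ ⟨y, rfl⟩
    refine hη ⟨(toUnit (sp R T)).left y, ?_⟩
    rw [← Scheme.Hom.comp_apply]
    rfl
  obtain ⟨ε, hε⟩ := hfac R 1 (hone R)
  refine ⟨A, inferInstance, inferInstance, ε, jA, ?_, inferInstance, inferInstance, hε.symm,
    fun T _ _ J hJ x hx => ?_⟩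
  · have h : LocallyOfFiniteType (sp R A).hom := by
      rw [← Over.w jA]
      exact MorphismProperty.comp_mem _ _ _ inferInstance ‹LocallyOfFiniteType G.hom›
    have h' : LocallyOfFiniteType (Spec.map (CommRingCat.ofHom (algebraMap R A))) := h
    rw [HasRingHomProperty.Spec_iff (P := @LocallyOfFiniteType)] at h'
    exact RingHom.finiteType_algebraMap.1 h'
  · have hr : Set.range x.left ⊆ (V : Set G.left) := by
      rintro _ ⟨P, rfl⟩
      let P₀ : PrimeSpectrum T := P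
      have hJP : J ≤ P₀.asIdeal := by
        obtain ⟨m, hm⟩ := hJ
        exact Ideal.IsPrime.le_of_pow_le (by rw [hm]; exact bot_le)
      have hPr : P₀ ∈ Set.range (PrimeSpectrum.comap (Ideal.Quotient.mk J)) := by
        rw [range_comap_of_surjective _ _ Ideal.Quotient.mk_surjective, Ideal.mk_ker,
          PrimeSpectrum.mem_zeroLocus]
        exact hJP
      obtain ⟨P', hP'⟩ := hPr
      refine hone (T ⧸ J) ⟨P', ?_⟩
      rw [← hx, Over.comp_left, Scheme.Hom.comp_apply]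
      exact congrArg (fun z => x.left z) hP'
    obtain ⟨φ, rfl⟩ := hfac T x hr
    refine ⟨φ, rfl, fun a ha => ?_⟩
    have h1 : (Ideal.Quotient.mkₐ R J).comp φ = (Algebra.ofId R (T ⧸ J)).comp ε := by
      apply pt_injective
      rw [← cancel_mono jA, pt_comp, pt_comp, Category.assoc, Category.assoc, hx, ← hε, MonObj.comp_one]
    have h2 := DFunLike.congr_fun h1 a
    rw [AlgHom.comp_apply, AlgHom.comp_apply, ha, map_zero] at h2
    exact Ideal.Quotient.eq_zero_iff_mem.1 h2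

variable (v : sp R (DA R M) ⟶ G) [IsMonHom v]

/-- Conjugates of points in an infinitesimal neighbourhood of the unit stay there. -/
theorem exists_conj {B : Type u} [CommRing B] [Algebra R B] (εB : B →ₐ[R] R) (j : sp R B ⟶ G)
    (hj1 : pt εB ≫ j = 1) (n : ℕ) (hnil : RingHom.ker εB ^ n = ⊥)
    (hfac : ∀ (T : Type u) [CommRing T] [Algebra R T] (J : Ideal T), J ^ n = ⊥ → ∀ x : sp R T ⟶ G,
      pt (Ideal.Quotient.mkₐ R J) ≫ x = 1 → ∃ β : B →ₐ[R] T, x = pt β ≫ j)
    {T : Type u} [CommRing T] [Algebra R T] (iL : DA R M →ₐ[R] T) (iR : B →ₐ[R] T) :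
    ∃ ρ : B →ₐ[R] T, (pt iL ≫ v) * (pt iR ≫ j) * (pt iL ≫ v)⁻¹ = pt ρ ≫ j := by
  let J : Ideal T := (RingHom.ker εB).map iR.toRingHom
  have hJ : J ^ n = ⊥ := by rw [← Ideal.map_pow, hnil, Ideal.map_bot]
  have hx : pt (Ideal.Quotient.mkₐ R J) ≫ (pt iR ≫ j) = 1 := by
    have h1 : (Ideal.Quotient.mkₐ R J).comp iR = (Algebra.ofId R _).comp εB := AlgHom.ext fun b => by
      have hb : b - algebraMap R B (εB b) ∈ RingHom.ker εB := by simp [RingHom.mem_ker]
      have h2 : iR (b - algebraMap R B (εB b)) ∈ J := Ideal.mem_map_of_mem _ hb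
      rw [← Ideal.Quotient.eq_zero_iff_mem, map_sub, map_sub, AlgHom.commutes, sub_eq_zero] at h2
      exact h2.trans (AlgHom.commutes (Ideal.Quotient.mkₐ R J) _)
    rw [← Category.assoc, ← pt_comp, h1, pt_comp, Category.assoc, hj1, MonObj.comp_one]
  exact hfac _ J hJ _ (by rw [MonObj.comp_mul, MonObj.comp_mul, hx, mul_one, GrpObj.comp_inv, mul_inv_cancel])

set_option maxHeartbeats 1000000 in
/-- The coaction on an infinitesimal neighbourhood of the unit section. -/
theorem exists_rho {B : Type u} [CommRing B] [Algebra R B] (εB : B →ₐ[R] R) (j : sp R B ⟶ G) [Mono j]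
    (hj1 : pt εB ≫ j = 1) (n : ℕ) (hnil : RingHom.ker εB ^ n = ⊥)
    (hfac : ∀ (T : Type u) [CommRing T] [Algebra R T] (J : Ideal T), J ^ n = ⊥ → ∀ x : sp R T ⟶ G,
      pt (Ideal.Quotient.mkₐ R J) ≫ x = 1 → ∃ β : B →ₐ[R] T, x = pt β ≫ j) :
    ∃ ρ : B →ₐ[R] DA R M ⊗[R] B, IsAct ρ ∧
      ∀ (K : Type u) [CommRing K] [Algebra R K] (χ : DA R M →ₐ[R] K) (x : B →ₐ[R] K),
        (pt χ ≫ v) * (pt x ≫ j) * (pt χ ≫ v)⁻¹ = pt ((pr χ x).comp ρ) ≫ j := by
  let iL : DA R M →ₐ[R] DA R M ⊗[R] B := Algebra.TensorProduct.includeLeft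
  let iR : B →ₐ[R] DA R M ⊗[R] B := Algebra.TensorProduct.includeRight
  obtain ⟨ρ, hρ⟩ := exists_conj v εB j hj1 n hnil hfac iL iR
  have hpt : ∀ (K : Type u) [CommRing K] [Algebra R K] (χ : DA R M →ₐ[R] K) (x : B →ₐ[R] K),
      (pt χ ≫ v) * (pt x ≫ j) * (pt χ ≫ v)⁻¹ = pt ((pr χ x).comp ρ) ≫ j := by
    intro K _ _ χ x
    rw [pt_comp, Category.assoc, ← hρ, MonObj.comp_mul, MonObj.comp_mul, GrpObj.comp_inv, ← Category.assoc,
      ← Category.assoc, ← pt_comp, ← pt_comp, pr_left, pr_right]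
  refine ⟨ρ, ⟨fun b => ?_, fun b => ?_⟩, hpt⟩
  · let g₁ : DA R M →ₐ[R] DA R M ⊗[R] (DA R M ⊗[R] B) := Algebra.TensorProduct.includeLeft
    let i₂ : DA R M ⊗[R] B →ₐ[R] DA R M ⊗[R] (DA R M ⊗[R] B) := Algebra.TensorProduct.includeRight
    have hmul : ∀ {T : Over (Spec (CommRingCat.of R))} (a a' : T ⟶ sp R (DA R M)) (x : T ⟶ G),
        ((a * a') ≫ v) * x * ((a * a') ≫ v)⁻¹ = (a ≫ v) * ((a' ≫ v) * x * (a' ≫ v)⁻¹) * (a ≫ v)⁻¹ := by
      intro T a a' x
      rw [MonObj.mul_comp, mul_inv_rev]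
      simp only [mul_assoc]
    have h1 := hmul (pt (K := DA R M ⊗[R] (DA R M ⊗[R] B)) g₁) (pt (K := DA R M ⊗[R] (DA R M ⊗[R] B)) (i₂.comp iL))
      (pt (K := DA R M ⊗[R] (DA R M ⊗[R] B)) (i₂.comp iR) ≫ j)
    rw [pt_mul_pt, hpt, hpt] at h1
    have e1 : pr (K := DA R M ⊗[R] (DA R M ⊗[R] B)) (i₂.comp iL) (i₂.comp iR) = i₂ :=
      Algebra.TensorProduct.ext (AlgHom.ext fun a => by simp [pr, iL]) (AlgHom.ext fun a => by simp [pr, iR])
    rw [e1, hpt] at h1
    have h2 := DFunLike.congr_fun (pt_injective ((cancel_mono j).1 h1)) b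
    rw [AlgHom.comp_apply, AlgHom.comp_apply] at h2
    have eL : ∀ z, pr (K := DA R M ⊗[R] (DA R M ⊗[R] B)) g₁ (i₂.comp ρ) z =
        LinearMap.lTensor (DA R M) ρ.toLinearMap z := fun z => by
      induction z using TensorProduct.induction_on with
      | zero => simp
      | add x y hx hy => simp only [map_add, hx, hy]
      | tmul x y => simp [g₁, i₂]
    rw [← eL, ← pr_assoc]
    exact h2.symm
  · have h1 := hpt B ((Algebra.ofId R B).comp (Bialgebra.counitAlgHom R (DA R M))) (AlgHom.id R B)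
    rw [← one_eq_pt, MonObj.one_comp, one_mul, inv_one, mul_one] at h1
    have h2 := DFunLike.congr_fun (pt_injective ((cancel_mono j).1 h1)).symm b
    rw [AlgHom.comp_apply] at h2
    have e : ∀ z, Algebra.TensorProduct.lift ((Algebra.ofId R B).comp (Bialgebra.counitAlgHom R (DA R M)))
        (AlgHom.id R B) (fun _ _ => Commute.all _ _) z =
        TensorProduct.lid R B (LinearMap.rTensor B (CoalgebraStruct.counit (R := R)) z) := fun z => by
      induction z using TensorProduct.induction_on with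
      | zero => simp
      | add x y hx hy => simp only [map_add, hx, hy]
      | tmul x y => simp [Algebra.smul_def]
    rw [← e]
    exact h2

/-- The neighbourhood of order `n` inside a chart. -/
theorem exists_nbhd {A : Type u} [CommRing A] [Algebra R A] [Algebra.FiniteType R A] (ε : A →ₐ[R] R)
    (jA : sp R A ⟶ G) [Mono jA] (hone : pt ε ≫ jA = 1)
    (hfac : ∀ (T : Type u) [CommRing T] [Algebra R T] (J : Ideal T), IsNilpotent J → ∀ x : sp R T ⟶ G,
      pt (Ideal.Quotient.mkₐ R J) ≫ x = 1 → ∃ φ : A →ₐ[R] T, x = pt φ ≫ jA ∧ ∀ a, ε a = 0 → φ a ∈ J)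
    (n : ℕ) (hn : n ≠ 0) :
    ∃ (B : Type u) (_ : CommRing B) (_ : Algebra R B) (π : A →ₐ[R] B) (εB : B →ₐ[R] R)
      (ρ : B →ₐ[R] DA R M ⊗[R] B), RingHom.ker π = RingHom.ker ε ^ n ∧ Function.Surjective π ∧
      (RingHom.ker εB).FG ∧ RingHom.ker εB ^ n = ⊥ ∧ IsAct ρ ∧ pt εB ≫ (pt π ≫ jA) = 1 ∧
      (∀ (T : Type u) [CommRing T] [Algebra R T] (J : Ideal T), J ^ n = ⊥ → ∀ x : sp R T ⟶ G,
        pt (Ideal.Quotient.mkₐ R J) ≫ x = 1 → ∃ β : B →ₐ[R] T, x = pt β ≫ (pt π ≫ jA)) ∧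
      Mono (pt π ≫ jA) ∧
      ∀ (K : Type u) [CommRing K] [Algebra R K] (χ : DA R M →ₐ[R] K) (x : B →ₐ[R] K),
        (pt χ ≫ v) * (pt x ≫ (pt π ≫ jA)) * (pt χ ≫ v)⁻¹ = pt ((pr χ x).comp ρ) ≫ (pt π ≫ jA) := by
  let I : Ideal A := RingHom.ker ε
  let π : A →ₐ[R] A ⧸ I ^ n := Ideal.Quotient.mkₐ R (I ^ n)
  have hle : I ^ n ≤ RingHom.ker ε := Ideal.pow_le_self hn
  let εB : (A ⧸ I ^ n) →ₐ[R] R := Ideal.Quotient.liftₐ (I ^ n) ε hle
  have hεB : εB.comp π = ε := AlgHom.ext fun a => rfl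
  have hkerB : RingHom.ker εB = I.map π.toRingHom := by
    refine le_antisymm (fun b hb => ?_) (Ideal.map_le_iff_le_comap.2 fun a ha => ha)
    obtain ⟨a, rfl⟩ := Ideal.Quotient.mk_surjective b
    exact Ideal.mem_map_of_mem _ (show ε a = 0 from hb)
  have hfg : I.FG := by
    obtain ⟨s, hs⟩ := (inferInstance : Algebra.FiniteType R A).out
    classical
    refine ⟨s.image fun a => a - algebraMap R A (ε a), le_antisymm (Submodule.span_le.2 ?_) fun a ha => ?_⟩
    · intro x hx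
      obtain ⟨a, -, rfl⟩ := Finset.mem_image.1 (Finset.mem_coe.1 hx)
      simp [I, RingHom.mem_ker]
    · have key : ∀ a ∈ Algebra.adjoin R (s : Set A), a - algebraMap R A (ε a) ∈
          Ideal.span (↑(s.image fun a => a - algebraMap R A (ε a)) : Set A) := by
        intro a ha
        induction ha using Algebra.adjoin_induction with
        | mem x hx => exact Ideal.subset_span (Finset.mem_coe.2 (Finset.mem_image.2 ⟨x, hx, rfl⟩))
        | algebraMap r => simp
        | add x y _ _ hx hy =>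
          rw [map_add, map_add, add_sub_add_comm]
          exact add_mem hx hy
        | mul x y _ _ hx hy =>
          have : x * y - algebraMap R A (ε (x * y)) =
              (x - algebraMap R A (ε x)) * y + algebraMap R A (ε x) * (y - algebraMap R A (ε y)) := by
            rw [map_mul, map_mul]; ring
          rw [this]
          exact add_mem (Ideal.mul_mem_right _ _ hx) (Ideal.mul_mem_left _ _ hy)
      have := key a (hs ▸ Algebra.mem_top)
      rwa [show ε a = 0 from ha, map_zero, sub_zero] at this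
  haveI : Mono (pt π) := by
    haveI : IsClosedImmersion (pt π).left := by
      rw [pt_left]
      exact IsClosedImmersion.spec_of_surjective _ Ideal.Quotient.mk_surjective
    exact Over.mono_of_mono_left _
  have hj1 : pt εB ≫ (pt π ≫ jA) = 1 := by
    rw [← Category.assoc, ← pt_comp, hεB, hone]
  have hnil : RingHom.ker εB ^ n = ⊥ := by
    rw [hkerB, ← Ideal.map_pow]
    exact Ideal.map_quotient_self _
  have hfacB : ∀ (T : Type u) [CommRing T] [Algebra R T] (J : Ideal T), J ^ n = ⊥ → ∀ x : sp R T ⟶ G,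
      pt (Ideal.Quotient.mkₐ R J) ≫ x = 1 → ∃ β : (A ⧸ I ^ n) →ₐ[R] T, x = pt β ≫ (pt π ≫ jA) := by
    intro T _ _ J hJ x hx
    obtain ⟨φ, rfl, hφ⟩ := hfac T J ⟨n, hJ⟩ x hx
    have hI : I.map φ.toRingHom ≤ J := Ideal.map_le_iff_le_comap.2 fun a ha => hφ a ha
    have hker : I ^ n ≤ RingHom.ker φ := fun a ha => by
      have h1 : φ a ∈ (I ^ n).map φ.toRingHom := Ideal.mem_map_of_mem _ ha
      rw [Ideal.map_pow] at h1
      have h2 := Ideal.pow_right_mono hI n h1
      rw [hJ] at h2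
      exact (Submodule.mem_bot _).1 h2
    refine ⟨Ideal.Quotient.liftₐ (I ^ n) φ hker, ?_⟩
    rw [← Category.assoc, ← pt_comp]
    rfl
  obtain ⟨ρ, hρ, hpt⟩ := exists_rho v εB (pt π ≫ jA) hj1 n hnil hfacB
  exact ⟨_, inferInstance, inferInstance, π, εB, ρ, Ideal.mk_ker, Ideal.Quotient.mk_surjective,
    hkerB ▸ hfg.map _, hnil, hρ, hj1, hfacB, inferInstance, hpt⟩

set_option synthInstance.maxHeartbeats 400000 in
set_option maxHeartbeats 1000000 in
/-- Commutation with the first neighbourhood spreads from a prime to a neighbourhood. -/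
theorem exists_nhd_inf [LocallyOfFiniteType G.hom] (V : G.left.Opens) (hV : IsAffineOpen V)
    (hη : Set.range (η[G] : 𝟙_ (Over (Spec (CommRingCat.of R))) ⟶ G).left ⊆ (V : Set G.left))
    (q : Ideal R) [q.IsPrime] (hq : InfR v 2 (algebraMap R q.ResidueField)) :
    ∃ f ∉ q, ∀ (k : Type u) [Field k] (ψ : R →+* k), ψ f ≠ 0 → InfR v 2 ψ := by
  obtain ⟨A, _, _, ε, jA, hft, _, hmono, hone, hfac⟩ := exists_chart V hV hη
  haveI := hft
  haveI := hmono
  obtain ⟨B, _, _, π, εB, ρ, -, -, hfg, hnil, hρ, hj1, hfacB, hmB, hpt⟩ := exists_nbhd v ε jA hone hfac 2 two_ne_zero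
  haveI := hmB
  have hgen : ∀ b : B, ∃ r : R, b - algebraMap R B r ∈ RingHom.ker εB := fun b =>
    ⟨εB b, by simp [RingHom.mem_ker]⟩
  let κ := q.ResidueField
  let iL : DA R M →ₐ[R] DA R M ⊗[R] B := Algebra.TensorProduct.includeLeft
  let iR : B →ₐ[R] DA R M ⊗[R] B := Algebra.TensorProduct.includeRight
  obtain ⟨T, _, _, pi, hpi, io, hio⟩ : ∃ (T : Type u) (_ : CommRing T) (_ : Algebra R T) (pi : DA R M ⊗[R] B →ₐ[R] T),
      (∀ z, pi z = 0 → (1 : κ) ⊗ₜ[R] z = 0) ∧ ∃ io : κ →+* T, io.comp (algebraMap R κ) = algebraMap R T :=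
    ⟨κ ⊗[R] (DA R M ⊗[R] B), inferInstance, inferInstance, Algebra.TensorProduct.includeRight, fun z hz => hz,
      Algebra.TensorProduct.includeLeftRingHom, RingHom.ext fun r => (Algebra.TensorProduct.algebraMap_apply r).symm⟩
  let J : Ideal T := (RingHom.ker εB).map (pi.comp iR).toRingHom
  have hx : pt (Ideal.Quotient.mkₐ R J) ≫ (pt (pi.comp iR) ≫ (pt π ≫ jA)) = 1 := by
    have h1 : (Ideal.Quotient.mkₐ R J).comp (pi.comp iR) = (Algebra.ofId R _).comp εB := AlgHom.ext fun b => by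
      have hb : b - algebraMap R B (εB b) ∈ RingHom.ker εB := by simp [RingHom.mem_ker]
      have h2 : (pi.comp iR) (b - algebraMap R B (εB b)) ∈ J := Ideal.mem_map_of_mem _ hb
      rw [← Ideal.Quotient.eq_zero_iff_mem, map_sub, map_sub, AlgHom.commutes, sub_eq_zero] at h2
      exact h2.trans (AlgHom.commutes (Ideal.Quotient.mkₐ R J) _)
    rw [← Category.assoc, ← pt_comp, h1, pt_comp, Category.assoc, hj1, MonObj.comp_one]
  have hc := hq T io hio J (by rw [← Ideal.map_pow, hnil, Ideal.map_bot]) _ hx (pi.comp iL)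
  have h2 : (pr (pi.comp iL) (pi.comp iR)).comp ρ = pi.comp iR := by
    apply pt_injective
    rw [← cancel_mono (pt π ≫ jA), ← hpt, hc, mul_inv_cancel_right]
  have e2 : pr (pi.comp iL) (pi.comp iR) = pi :=
    Algebra.TensorProduct.ext (AlgHom.ext fun a => by simp [pr, iL]) (AlgHom.ext fun a => by simp [pr, iR])
  rw [e2] at h2
  obtain ⟨f, hf, hf0⟩ := exists_basicOpen hρ (RingHom.ker εB) hfg hnil hgen q (fun m hm c => by
    have h3 := hpi (ρ c - iR c) (by rw [map_sub, sub_eq_zero]; exact DFunLike.congr_fun h2 c)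
    let L : DA R M ⊗[R] B →ₗ[R] B := coord R B M m
    have h4 : L (ρ c - iR c) = co ρ m c := by
      classical
      have hb1 : bas R M 1 = (1 : DA R M) := by rw [FreeAct.bas_apply, ← MonoidAlgebra.one_def]
      rw [map_sub, Algebra.TensorProduct.includeRight_apply, ← hb1, coord_bas_tmul, if_neg (fun e => hm e.symm),
        sub_zero]
      rfl
    have h5 := congrArg (L.lTensor κ) h3
    rw [LinearMap.lTensor_tmul, map_zero, h4] at h5
    exact FibTriv.exists_smul_mem q _ h5)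
  refine ⟨f, hf, fun k _ ψ hψ T' _ _ g hg J' hJ' x hx' χ => ?_⟩
  obtain ⟨β, rfl⟩ := hfacB T' J' hJ' x hx'
  have hu : IsUnit (algebraMap R T' f) := by
    rw [← hg]
    exact (isUnit_iff_ne_zero.2 hψ).map g
  have h3 : (pr χ β).comp ρ = β := AlgHom.ext fun b => by
    have h4 := congrArg (pr χ β) (hf0 b)
    rw [map_smul, map_zero, map_sub, Algebra.smul_def, hu.mul_right_eq_zero, sub_eq_zero] at h4
    rw [AlgHom.comp_apply, h4]
    simp [pr]
  have := hpt T' χ β
  rw [h3, mul_inv_eq_iff_eq_mul] at this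
  exact this

end Groth.Agent.CentLocus
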