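import Groth.Agent.CentLocusLib.Piece
import Groth.Agent.MonoLocusLib.Global
import Groth.Agent.HomogSepLib.Irr
import Groth.Agent.GrpShear
import Groth.Agent.NormCentLib.Chart

/-!
A diagonalisable subgroup commuting with the first neighbourhood of the unit of a connected group over an
algebraically closed field is central.
-/

set_option autoImplicit false

noncomputable section

universe u

open CategoryTheory CategoryTheory.Limits MonoidalCategory CartesianMonoidalCategory AlgebraicGeometry CoactBr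
open scoped MonObj TensorProduct

namespace Groth.Agent.CentLocus

open Groth.Agent.FreeAct (DA bas IsAct co pr pr_left pr_right)

attribute [local instance] CoactBr.braidedAlgSpecOf

section Ring

variable {R : Type u} [CommRing R] {M : Type} [AddCommGroup M] {G : Over (Spec (CommRingCat.of R))} [GrpObj G]

theorem isPullback_whisker {S : Scheme.{u}} {X T T' : Over S} (b : T' ⟶ T) :
    IsPullback (b ▷ X).left (fst T' X).left (fst T X).left b.left := by
  have outer : IsPullback (snd T' X).left (fst T' X).left X.hom T'.hom :=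
    (IsPullback.of_hasPullback T'.hom X.hom).flip
  have right : IsPullback (snd T X).left (fst T X).left X.hom T.hom :=
    (IsPullback.of_hasPullback T.hom X.hom).flip
  refine IsPullback.of_right ?_ ?_ right
  · rw [← Over.comp_left, whiskerRight_snd, Over.w b]
    exact outer
  · rw [← Over.comp_left, ← Over.comp_left, whiskerRight_fst]

/-- The vanishing locus of a morphism to a group whose unit is a closed immersion. -/
theorem exists_eq_one_ideal {T : Type u} [CommRing T] [Algebra R T] (c : sp R T ⟶ G)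
    [IsClosedImmersion (η[G] : 𝟙_ (Over (Spec (CommRingCat.of R))) ⟶ G).left] :
    ∃ I : Ideal T, ∀ (K : Type u) [CommRing K] [Algebra R K] (φ : T →ₐ[R] K),
      pt φ ≫ c = 1 ↔ I ≤ RingHom.ker φ := by
  let z : pullback c.left (η[G] : 𝟙_ (Over (Spec (CommRingCat.of R))) ⟶ G).left ⟶ Spec (CommRingCat.of T) :=
    pullback.fst _ _
  haveI : IsClosedImmersion z := inferInstanceAs (IsClosedImmersion (pullback.fst c.left _))
  obtain ⟨I, e, he⟩ := IsClosedImmersion.Spec_iff.1 ‹IsClosedImmersion z›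
  refine ⟨I, fun K _ _ φ => ?_⟩
  have hu : (toUnit (sp R K)).left = (sp R K).hom :=
    (Category.comp_id _).symm.trans (Over.w (toUnit (sp R K)))
  constructor
  · intro hy
    have hy' : (pt φ ≫ c).left = (sp R K).hom ≫ (η[G] : 𝟙_ (Over (Spec (CommRingCat.of R))) ⟶ G).left := by
      rw [hy, ← hu]
      rfl
    let y : Spec (CommRingCat.of K) ⟶ pullback c.left (η[G] : 𝟙_ (Over (Spec (CommRingCat.of R))) ⟶ G).left :=
      pullback.lift (pt φ).left (sp R K).hom hy'
    obtain ⟨χ', hχ⟩ := Spec.map_surjective (y ≫ e.hom)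
    have h1 : CommRingCat.ofHom (Ideal.Quotient.mk I) ≫ χ' = CommRingCat.ofHom φ.toRingHom := by
      refine Spec.map_injective ((Spec.map_comp _ _).trans ?_)
      rw [hχ, Category.assoc, ← he]
      exact (pullback.lift_fst _ _ _).trans (pt_left φ)
    intro x hx
    rw [RingHom.mem_ker]
    show φ.toRingHom x = 0
    rw [← CommRingCat.hom_ofHom φ.toRingHom, ← h1]
    show χ'.hom (Ideal.Quotient.mk I x) = 0
    rw [Ideal.Quotient.eq_zero_iff_mem.2 hx, map_zero]
  · intro hx
    let l : Spec (CommRingCat.of K) ⟶ pullback c.left (η[G] : 𝟙_ (Over (Spec (CommRingCat.of R))) ⟶ G).left :=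
      Spec.map (CommRingCat.ofHom (Ideal.Quotient.lift I φ.toRingHom hx)) ≫ e.inv
    have hlk : l ≫ z = (pt φ).left := by
      show (_ ≫ e.inv) ≫ z = _
      rw [Category.assoc, show e.inv ≫ z = Spec.map (CommRingCat.ofHom (Ideal.Quotient.mk I)) by
        rw [Iso.inv_comp_eq, he]]
      exact (Spec.map_comp _ _).symm
    have hl2 : l ≫ pullback.snd _ _ = (sp R K).hom := by
      have hη : (η[G] : 𝟙_ (Over (Spec (CommRingCat.of R))) ⟶ G).left ≫ G.hom = 𝟙 _ := Over.w _
      rw [← Category.comp_id (l ≫ pullback.snd _ _), ← hη, Category.assoc, ← pullback.condition_assoc,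
        Over.w c, ← Category.assoc]
      exact (congrArg (· ≫ (sp R T).hom) hlk).trans (Over.w (pt φ))
    refine Over.OverMorphism.ext ?_
    show (pt φ).left ≫ c.left = (toUnit (sp R K)).left ≫ _
    exact (congrArg (· ≫ c.left) hlk).symm.trans ((Category.assoc _ _ _).trans ((congrArg (l ≫ ·) pullback.condition).trans
      ((Category.assoc _ _ _).symm.trans (congrArg (· ≫ (η[G] : 𝟙_ (Over (Spec (CommRingCat.of R))) ⟶ G).left)
        (hl2.trans hu.symm)))))

theorem comm_iff_eq_one {X : Over (Spec (CommRingCat.of R))} (a b : X ⟶ G) : a * b * a⁻¹ * b⁻¹ = 1 ↔ a * b = b * a := by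
  rw [mul_inv_eq_one, mul_inv_eq_iff_eq_mul]

/-- Commutation modulo the square of the ideal of the unit. -/
theorem delta_mem (v : sp R (DA R M) ⟶ G) (hinf : InfR v 2 (RingHom.id R)) {B : Type u} [CommRing B] [Algebra R B]
    (εB : B →ₐ[R] R) (j : sp R B ⟶ G) [Mono j] (hj1 : pt εB ≫ j = 1) (ρ : B →ₐ[R] DA R M ⊗[R] B)
    (hpt : ∀ (K : Type u) [CommRing K] [Algebra R K] (χ : DA R M →ₐ[R] K) (x : B →ₐ[R] K),
      (pt χ ≫ v) * (pt x ≫ j) * (pt χ ≫ v)⁻¹ = pt ((pr χ x).comp ρ) ≫ j)
    {T : Type u} [CommRing T] [Algebra R T] (pi : DA R M ⊗[R] B →ₐ[R] T)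
    (hker : RingHom.ker pi = ((RingHom.ker εB).map
      (Algebra.TensorProduct.includeRight : B →ₐ[R] DA R M ⊗[R] B).toRingHom) ^ 2) (b : B) :
    ρ b - 1 ⊗ₜ[R] b ∈ ((RingHom.ker εB).map
      (Algebra.TensorProduct.includeRight : B →ₐ[R] DA R M ⊗[R] B).toRingHom) ^ 2 := by
  let iL : DA R M →ₐ[R] DA R M ⊗[R] B := Algebra.TensorProduct.includeLeft
  let iR : B →ₐ[R] DA R M ⊗[R] B := Algebra.TensorProduct.includeRight
  let J : Ideal T := (RingHom.ker εB).map (pi.comp iR).toRingHom
  have hJ : J ^ 2 = ⊥ := by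
    have e : J = ((RingHom.ker εB).map iR.toRingHom).map pi.toRingHom := by
      rw [Ideal.map_map]; rfl
    rw [e, ← Ideal.map_pow, eq_bot_iff, Ideal.map_le_iff_le_comap]
    intro x hx
    rw [Ideal.mem_comap, Ideal.mem_bot]
    exact RingHom.mem_ker.1 (hker.symm ▸ hx)
  have hx : pt (Ideal.Quotient.mkₐ R J) ≫ (pt (pi.comp iR) ≫ j) = 1 := by
    have h1 : (Ideal.Quotient.mkₐ R J).comp (pi.comp iR) = (Algebra.ofId R _).comp εB := AlgHom.ext fun b => by
      have hb : b - algebraMap R B (εB b) ∈ RingHom.ker εB := by simp [RingHom.mem_ker]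
      have h2 : (pi.comp iR) (b - algebraMap R B (εB b)) ∈ J := Ideal.mem_map_of_mem _ hb
      rw [← Ideal.Quotient.eq_zero_iff_mem, map_sub, map_sub, AlgHom.commutes, sub_eq_zero] at h2
      exact h2.trans (AlgHom.commutes (Ideal.Quotient.mkₐ R J) _)
    rw [← Category.assoc, ← pt_comp, h1, pt_comp, Category.assoc, hj1, MonObj.comp_one]
  have hc := hinf T (algebraMap R T) (RingHom.comp_id _) J hJ _ hx (pi.comp iL)
  have h2 : (pr (pi.comp iL) (pi.comp iR)).comp ρ = pi.comp iR := by
    apply pt_injective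
    rw [← cancel_mono j, ← hpt, hc, mul_inv_cancel_right]
  have e2 : pr (pi.comp iL) (pi.comp iR) = pi :=
    Algebra.TensorProduct.ext (AlgHom.ext fun a => by simp [pr, iL]) (AlgHom.ext fun a => by simp [pr, iR])
  rw [e2] at h2
  rw [← hker, RingHom.mem_ker, map_sub, sub_eq_zero]
  exact DFunLike.congr_fun h2 b

theorem exists_quot {A : Type u} [CommRing A] [Algebra R A] (I : Ideal A) :
    ∃ (T : Type u) (_ : CommRing T) (_ : Algebra R T) (pi : A →ₐ[R] T), RingHom.ker pi = I :=
  ⟨A ⧸ I, inferInstance, inferInstance, Ideal.Quotient.mkₐ R I, Ideal.mk_ker⟩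

set_option synthInstance.maxHeartbeats 400000 in
set_option maxHeartbeats 1000000 in
/-- On an open neighbourhood of the unit the commutation holds. -/
theorem exists_open_comm [IsNoetherianRing R] [LocallyOfFiniteType G.hom]
    [IsClosedImmersion (η[G] : 𝟙_ (Over (Spec (CommRingCat.of R))) ⟶ G).left]
    (v : sp R (DA R M) ⟶ G) [IsMonHom v] (V : G.left.Opens) (hV : IsAffineOpen V)
    (hη : Set.range (η[G] : 𝟙_ (Over (Spec (CommRingCat.of R))) ⟶ G).left ⊆ (V : Set G.left))
    (hinf : InfR v 2 (RingHom.id R)) :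
    ∃ (X : Over (Spec (CommRingCat.of R))) (jO : X ⟶ G), IsOpenImmersion jO.left ∧
      (∃ e : 𝟙_ (Over (Spec (CommRingCat.of R))) ⟶ X, e ≫ jO = η[G]) ∧
      (snd X (sp R (DA R M)) ≫ v) * (fst X (sp R (DA R M)) ≫ jO) =
        (fst X (sp R (DA R M)) ≫ jO) * (snd X (sp R (DA R M)) ≫ v) := by
  classical
  obtain ⟨A, _, _, ε, jA, hft, hoi, hmono, hone, hfac⟩ := exists_chart V hV hη
  haveI := hft
  haveI := hmono
  haveI := hoi
  haveI : IsNoetherianRing A := Algebra.FiniteType.isNoetherianRing R A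
  let iL : DA R M →ₐ[R] DA R M ⊗[R] A := Algebra.TensorProduct.includeLeft
  let iR : A →ₐ[R] DA R M ⊗[R] A := Algebra.TensorProduct.includeRight
  let a₀ : sp R (DA R M ⊗[R] A) ⟶ G := pt iL ≫ v
  let b₀ : sp R (DA R M ⊗[R] A) ⟶ G := pt iR ≫ jA
  obtain ⟨I₀, hI₀⟩ := exists_eq_one_ideal (a₀ * b₀ * a₀⁻¹ * b₀⁻¹)
  have hcomm : ∀ (K : Type u) [CommRing K] [Algebra R K] (φ : DA R M ⊗[R] A →ₐ[R] K),
      I₀ ≤ RingHom.ker φ ↔ (pt φ ≫ a₀) * (pt φ ≫ b₀) = (pt φ ≫ b₀) * (pt φ ≫ a₀) := by
    intro K _ _ φ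
    rw [← hI₀, ← comm_iff_eq_one, MonObj.comp_mul, MonObj.comp_mul, MonObj.comp_mul, GrpObj.comp_inv, GrpObj.comp_inv]
  -- the coefficients of the obstruction lie in all powers
  have hpow : ∀ z ∈ I₀, ∀ m, coord R A M m z ∈ ⨅ i : ℕ, (RingHom.ker ε) ^ i • (⊤ : Submodule A A) := by
    intro z hz m
    rw [Submodule.mem_iInf]
    intro n
    rcases Nat.eq_zero_or_pos n with rfl | hn
    · simp
    obtain ⟨B, _, _, π, εB, ρ, hkerπ, hπ, -, hnil, hρ, hj1, -, hmB, hpt⟩ :=
      exists_nbhd v ε jA hone hfac n (Nat.pos_iff_ne_zero.1 hn)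
    haveI := hmB
    have htriv : ∀ b, ρ b = 1 ⊗ₜ[R] b := by
      refine eq_one_tmul_of_sq hρ (RingHom.ker εB) hnil (fun b => ⟨εB b, by simp [RingHom.mem_ker]⟩) ?_
      obtain ⟨T, _, _, pi, hker⟩ := exists_quot (R := R) (((RingHom.ker εB).map
        (Algebra.TensorProduct.includeRight : B →ₐ[R] DA R M ⊗[R] B).toRingHom) ^ 2)
      exact delta_mem v hinf εB (pt π ≫ jA) hj1 ρ hpt pi hker
    let φ : DA R M ⊗[R] A →ₐ[R] DA R M ⊗[R] B := Algebra.TensorProduct.map (AlgHom.id R (DA R M)) π
    have h1 : I₀ ≤ RingHom.ker φ := by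
      rw [hcomm]
      have eL : φ.comp iL = Algebra.TensorProduct.includeLeft := AlgHom.ext fun a => by simp [φ, iL]
      have eR : φ.comp iR = (Algebra.TensorProduct.includeRight : B →ₐ[R] DA R M ⊗[R] B).comp π :=
        AlgHom.ext fun a => by simp [φ, iR]
      simp only [a₀, b₀, ← Category.assoc, ← pt_comp, eL, eR]
      rw [pt_comp π, Category.assoc]
      have h2 := hpt (DA R M ⊗[R] B) Algebra.TensorProduct.includeLeft Algebra.TensorProduct.includeRight
      rw [show (pr (Algebra.TensorProduct.includeLeft : DA R M →ₐ[R] DA R M ⊗[R] B)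
        Algebra.TensorProduct.includeRight).comp ρ = Algebra.TensorProduct.includeRight from
          AlgHom.ext fun b => by simp [pr, htriv], mul_inv_eq_iff_eq_mul] at h2
      exact h2
    have hnat : ∀ w, coord R B M m (φ w) = π (coord R A M m w) := by
      intro w
      induction w using TensorProduct.induction_on with
      | zero => simp
      | add x y hx hy => simp only [map_add, hx, hy]
      | tmul x y => simp [coord, φ, map_smul]
    have h3 := hnat z
    rw [RingHom.mem_ker.1 (h1 hz), map_zero] at h3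
    have h4 : coord R A M m z ∈ RingHom.ker ε ^ n := hkerπ ▸ RingHom.mem_ker.2 h3.symm
    simpa [Ideal.smul_top_eq_map] using h4
  let K₀ : Ideal A := Ideal.span {c | ∃ z ∈ I₀, ∃ m, coord R A M m z = c}
  obtain ⟨gens, hgens⟩ := (isNoetherian_def.1 (inferInstance : IsNoetherianRing A)) K₀
  have hK₀ : ∀ g ∈ gens, ∃ r : RingHom.ker ε, (r : A) • g = g := fun g hg => by
    rw [← Ideal.mem_iInf_smul_pow_eq_bot_iff (RingHom.ker ε) g]
    have : K₀ ≤ ⨅ i : ℕ, (RingHom.ker ε) ^ i • (⊤ : Submodule A A) := by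
      refine Submodule.span_le.2 ?_
      rintro _ ⟨z, hz, m, rfl⟩
      exact hpow z hz m
    exact this (hgens ▸ Submodule.subset_span hg)
  choose r hr using hK₀
  let f : A := ∏ g ∈ gens.attach, (1 - (r g.1 g.2 : A))
  have hεf : ε f = 1 := by
    simp only [f, map_prod, map_sub, map_one]
    exact Finset.prod_eq_one fun g _ => by rw [show ε (r g.1 g.2 : A) = 0 from (r g.1 g.2).2, sub_zero]
  have hfK : ∀ c ∈ K₀, f * c = 0 := by
    intro c hc
    rw [← hgens] at hc
    induction hc using Submodule.span_induction with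
    | mem g hg =>
      obtain ⟨d, hd⟩ := Finset.dvd_prod_of_mem (fun g : gens => (1 - (r g.1 g.2 : A)))
        (Finset.mem_attach gens ⟨g, hg⟩)
      show (∏ g ∈ gens.attach, (1 - (r g.1 g.2 : A))) * g = 0
      rw [hd, mul_comm (1 - (r g hg : A)) d, mul_assoc, sub_mul, one_mul]
      have := hr g hg
      rw [smul_eq_mul] at this
      rw [this, sub_self, mul_zero]
    | zero => rw [mul_zero]
    | add x y _ _ hx hy => rw [mul_add, hx, hy, add_zero]
    | smul a x _ hx => rw [smul_eq_mul, mul_left_comm, hx, mul_zero]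
  let Af : Type u := Localization.Away f
  let ι' : A →ₐ[R] Af := IsScalarTower.toAlgHom R A Af
  let jO : sp R Af ⟶ G := pt ι' ≫ jA
  haveI : IsOpenImmersion (pt ι').left := by
    rw [pt_left]
    exact IsOpenImmersion.of_isLocalization f
  have hu : IsUnit ((ε : A →+* R) f) := by
    rw [show (ε : A →+* R) f = ε f from rfl, hεf]
    exact isUnit_one
  refine ⟨sp R Af, jO, ?_, ?_, ?_⟩
  · show IsOpenImmersion ((pt ι').left ≫ jA.left)
    infer_instance
  · let εf : Af →ₐ[R] R :=
      { IsLocalization.Away.lift f hu with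
        commutes' := fun r => by
          show IsLocalization.Away.lift f hu (algebraMap R Af r) = _
          rw [IsScalarTower.algebraMap_apply R A Af, IsLocalization.Away.lift_eq]
          exact ε.commutes r }
    have he : εf.comp ι' = ε := AlgHom.ext fun a => IsLocalization.Away.lift_eq f hu a
    refine ⟨Over.homMk (pt εf).left ?_, ?_⟩
    · exact (Over.w (pt εf)).trans sp_hom_self
    · refine Over.OverMorphism.ext ?_
      have h5 : pt εf ≫ jO = 1 := by rw [← Category.assoc, ← pt_comp, he, hone]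
      have h6 := congrArg CommaMorphism.left h5
      refine h6.trans ?_
      show (toUnit (sp R R)).left ≫ _ = _
      have h7 : (toUnit (sp R R)).left = 𝟙 (Spec (CommRingCat.of R)) :=
        ((Category.comp_id _).symm.trans (Over.w (toUnit (sp R R)))).trans sp_hom_self
      rw [h7]
      exact Category.id_comp _
  let φ : DA R M ⊗[R] A →ₐ[R] DA R M ⊗[R] Af := Algebra.TensorProduct.map (AlgHom.id R (DA R M)) ι'
  have h1 : I₀ ≤ RingHom.ker φ := by
    intro z hz
    obtain ⟨c, hc⟩ := TensorProduct.eq_repr_basis_left (bas R M) z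
    rw [RingHom.mem_ker, ← hc, map_finsuppSum]
    refine Finset.sum_eq_zero fun j hj => ?_
    have hcj : coord R A M j z = c j := by
      rw [← hc, map_finsuppSum, Finsupp.sum]
      rw [Finset.sum_congr rfl fun i _ => coord_bas_tmul j i (c i), Finset.sum_ite_eq', if_pos hj]
    have h0 : ι' (c j) = 0 := by
      have hu' : IsUnit (algebraMap A Af f) := IsLocalization.Away.algebraMap_isUnit f
      refine hu'.mul_right_eq_zero.1 ?_
      show algebraMap A Af f * algebraMap A Af (c j) = 0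
      rw [← map_mul, hfK _ (Ideal.subset_span ⟨z, hz, j, hcj⟩), map_zero]
    show φ (bas R M j ⊗ₜ[R] c j) = 0
    rw [Algebra.TensorProduct.map_tmul, h0, TensorProduct.tmul_zero]
  rw [hcomm] at h1
  have eL : φ.comp iL = Algebra.TensorProduct.includeLeft := AlgHom.ext fun a => by simp [φ, iL]
  have eR : φ.comp iR = (Algebra.TensorProduct.includeRight : Af →ₐ[R] DA R M ⊗[R] Af).comp ι' :=
    AlgHom.ext fun a => by simp [φ, iR]
  simp only [a₀, b₀, ← Category.assoc, ← pt_comp, eL, eR] at h1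
  let U : sp R (DA R M ⊗[R] Af) ⟶ sp R Af ⊗ sp R (DA R M) :=
    lift (pt Algebra.TensorProduct.includeRight) (pt Algebra.TensorProduct.includeLeft)
  haveI : IsIso U := by
    have h := NormCent.isIso_U (R := R) (DA R M) Af
    have e : U = lift (pt Algebra.TensorProduct.includeLeft) (pt Algebra.TensorProduct.includeRight) ≫
        lift (snd (sp R (DA R M)) (sp R Af)) (fst _ _) := by simp [U, comp_lift]
    haveI : IsIso (lift (snd (sp R (DA R M)) (sp R Af)) (fst _ _)) :=
      ⟨lift (snd (sp R Af) (sp R (DA R M))) (fst _ _), by ext <;> simp, by ext <;> simp⟩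
    rw [e]
    infer_instance
  rw [← cancel_epi U, MonObj.comp_mul, MonObj.comp_mul]
  simp only [U, lift_fst_assoc, lift_snd_assoc]
  rw [pt_comp, Category.assoc] at h1
  exact h1

end Ring

set_option maxHeartbeats 1000000 in
/-- Over an algebraically closed field commutation with the first neighbourhood of the unit gives centrality. -/
theorem comm_of_inf {k : Type u} [Field k] [IsAlgClosed k] {M : Type} [AddCommGroup M]
    {G : Over (Spec (CommRingCat.of k))} [GrpObj G] [LocallyOfFiniteType G.hom] [ConnectedSpace G.left]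
    (v : sp k (DA k M) ⟶ G) [IsMonHom v] (hinf : InfR v 2 (RingHom.id k)) :
    (snd G (sp k (DA k M)) ≫ v) * fst G (sp k (DA k M)) = fst G (sp k (DA k M)) * (snd G (sp k (DA k M)) ≫ v) := by
  let D := sp k (DA k M)
  haveI : Subsingleton ↥(𝟙_ (Over (Spec (CommRingCat.of k)))).left :=
    inferInstanceAs (Subsingleton (PrimeSpectrum k))
  haveI : IsClosedImmersion (η[G] : 𝟙_ (Over (Spec (CommRingCat.of k))) ⟶ G).left :=
    isClosedImmersion_of_comp_eq_id _ _ (Over.w (η[G] : 𝟙_ (Over (Spec (CommRingCat.of k))) ⟶ G))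
  let pk : Spec (CommRingCat.of k) := IsLocalRing.closedPoint k
  obtain ⟨V, hV, heV, -⟩ := exists_isAffineOpen_mem_and_subset (X := G.left)
    (x := (η[G] : 𝟙_ (Over (Spec (CommRingCat.of k))) ⟶ G).left pk) (U := ⊤) trivial
  have hη : Set.range (η[G] : 𝟙_ (Over (Spec (CommRingCat.of k))) ⟶ G).left ⊆ (V : Set G.left) := by
    rintro _ ⟨y, rfl⟩
    rw [show y = pk from @Subsingleton.elim (PrimeSpectrum k) _ y pk]
    exact heV
  obtain ⟨X, jO, hoi, ⟨e, he⟩, hcomm⟩ := exists_open_comm v V hV hη hinf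
  haveI := hoi
  let m₂ : X ⊗ X ⟶ G := (fst X X ≫ jO) * (snd X X ≫ jO)
  have hm₂ : m₂ = (jO ⊗ₘ jO) ≫ μ[G] := by
    rw [MonObj.mul_eq_mul, MonObj.comp_mul, tensorHom_fst, tensorHom_snd]
  haveI : Flat G.hom := inferInstance
  haveI hflat : Flat m₂.left := by
    rw [hm₂, Over.comp_left]
    haveI : IsOpenImmersion (jO ⊗ₘ jO).left := by
      rw [Over.tensorHom_left]
      infer_instance
    haveI : Flat (μ[G] : G ⊗ G ⟶ G).left :=
      GrpShear.act_prop (GrpShear.mulAction G) @Flat inferInstance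
    infer_instance
  haveI : LocallyOfFiniteType X.hom := by
    rw [← Over.w jO]
    infer_instance
  haveI : IsLocallyNoetherian G.left := LocallyOfFiniteType.isLocallyNoetherian G.hom
  haveI : LocallyOfFinitePresentation m₂.left := by
    haveI : LocallyOfFiniteType (m₂.left ≫ G.hom) := by
      rw [Over.w m₂]
      exact inferInstanceAs (LocallyOfFiniteType (pullback.fst X.hom X.hom ≫ X.hom))
    haveI : LocallyOfFiniteType m₂.left := locallyOfFiniteType_of_comp m₂.left G.hom
    exact LocallyOfFinitePresentation.iff_locallyOfFiniteType.2 inferInstance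
  haveI : IrreducibleSpace G.left := HomogSep.irreducibleSpace_grp
  haveI : JacobsonSpace G.left := LocallyOfFiniteType.jacobsonSpace G.hom
  haveI : Surjective m₂.left := ⟨fun g => by
    by_contra hg
    have hopen : IsOpen (Set.range m₂.left) := m₂.left.isOpenMap.isOpen_range
    obtain ⟨c, hc, hccl⟩ := nonempty_inter_closedPoints (show (Set.range m₂.left)ᶜ.Nonempty from ⟨g, hg⟩)
      hopen.isClosed_compl.isLocallyClosed
    let pc : 𝟙_ (Over (Spec (CommRingCat.of k))) ⟶ G :=
      Over.homMk _ ((pointEquivClosedPoint G.hom).symm ⟨c, hccl⟩).2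
    have epc : pc.left pk = c := congrArg Subtype.val ((pointEquivClosedPoint G.hom).apply_symm_apply ⟨c, hccl⟩)
    let ψ : G ⟶ G := (𝟙 G)⁻¹ * (toUnit G ≫ pc)
    let ψ' : G ⟶ G := (toUnit G ≫ pc) * (𝟙 G)⁻¹
    haveI : IsIso ψ := ⟨ψ', by
      rw [MonObj.comp_mul, GrpObj.comp_inv, Category.comp_id, ← Category.assoc,
        Subsingleton.elim (ψ ≫ toUnit G) (toUnit G)]
      simp [ψ], by
      rw [MonObj.comp_mul, GrpObj.comp_inv, Category.comp_id, ← Category.assoc,
        Subsingleton.elim (ψ' ≫ toUnit G) (toUnit G)]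
      simp [ψ']⟩
    haveI : IsIso ψ.left := inferInstanceAs (IsIso ((Over.forget _).map ψ))
    let O : Set G.left := Set.range jO.left
    have hO : IsOpen O := jO.left.isOpenEmbedding.isOpen_range
    have hne : (O ∩ ψ.left ⁻¹' O).Nonempty := by
      refine nonempty_preirreducible_inter hO (hO.preimage ψ.left.continuous) ⟨_, e.left pk, rfl⟩ ?_
      obtain ⟨w, hw⟩ := ψ.left.surjective (jO.left (e.left pk))
      exact ⟨w, e.left pk, hw.symm⟩
    obtain ⟨d, ⟨hd₁, hd₂⟩, hdcl⟩ :=
      nonempty_inter_closedPoints hne (hO.inter (hO.preimage ψ.left.continuous)).isLocallyClosed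
    let pd : 𝟙_ (Over (Spec (CommRingCat.of k))) ⟶ G :=
      Over.homMk _ ((pointEquivClosedPoint G.hom).symm ⟨d, hdcl⟩).2
    have epd : pd.left pk = d := congrArg Subtype.val ((pointEquivClosedPoint G.hom).apply_symm_apply ⟨d, hdcl⟩)
    have hlift : ∀ q : 𝟙_ (Over (Spec (CommRingCat.of k))) ⟶ G, q.left pk ∈ O →
        ∃ l : 𝟙_ (Over (Spec (CommRingCat.of k))) ⟶ X, l ≫ jO = q := by
      intro q hq
      have hr : Set.range q.left ⊆ Set.range jO.left := by
        rintro _ ⟨y, rfl⟩
        rw [show y = pk from @Subsingleton.elim (PrimeSpectrum k) _ y pk]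
        exact hq
      exact ⟨Over.homMk (IsOpenImmersion.lift jO.left q.left hr) (by
        rw [← Over.w jO, ← Category.assoc, IsOpenImmersion.lift_fac, Over.w]),
        Over.OverMorphism.ext (IsOpenImmersion.lift_fac _ _ _)⟩
    obtain ⟨l₁, hl₁⟩ := hlift pd (epd ▸ hd₁)
    obtain ⟨l₂, hl₂⟩ := hlift (pd ≫ ψ) (by
      rw [Over.comp_left, Scheme.Hom.comp_apply, epd]
      exact hd₂)
    have h : lift l₁ l₂ ≫ m₂ = pc := by
      simp only [m₂, MonObj.comp_mul, lift_fst_assoc, lift_snd_assoc, hl₁, hl₂]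
      simp only [ψ, MonObj.comp_mul, GrpObj.comp_inv, Category.comp_id, ← Category.assoc,
        Subsingleton.elim (pd ≫ toUnit G) (𝟙 _), Category.id_comp, mul_inv_cancel_left]
    refine hc ⟨(lift l₁ l₂).left pk, ?_⟩
    rw [← epc, ← h, Over.comp_left, Scheme.Hom.comp_apply]⟩
  have hpb := isPullback_whisker (X := D) m₂
  haveI : Flat (m₂ ▷ D).left := MorphismProperty.of_isPullback hpb.flip hflat
  haveI : Surjective (m₂ ▷ D).left := MorphismProperty.of_isPullback hpb.flip ‹Surjective m₂.left›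
  haveI : Epi (m₂ ▷ D).left := Flat.epi_of_flat_of_surjective _
  haveI : Epi (m₂ ▷ D) := Over.epi_of_epi_left _
  rw [← cancel_epi (m₂ ▷ D), MonObj.comp_mul, MonObj.comp_mul, whiskerRight_snd_assoc, whiskerRight_fst]
  have key : ∀ pr' : X ⊗ X ⟶ X,
      (snd (X ⊗ X) D ≫ v) * (fst (X ⊗ X) D ≫ pr' ≫ jO) = (fst (X ⊗ X) D ≫ pr' ≫ jO) * (snd (X ⊗ X) D ≫ v) := by
    intro pr'
    have hcomm' : (snd X D ≫ v) * (fst X D ≫ jO) = (fst X D ≫ jO) * (snd X D ≫ v) := hcomm
    have h := congrArg (lift (fst (X ⊗ X) D ≫ pr') (snd (X ⊗ X) D) ≫ ·) hcomm' 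
    simpa only [MonObj.comp_mul, lift_fst_assoc, lift_snd_assoc, Category.assoc] using h
  have hm : fst (X ⊗ X) D ≫ m₂ = (fst (X ⊗ X) D ≫ fst X X ≫ jO) * (fst (X ⊗ X) D ≫ snd X X ≫ jO) := by
    simp only [m₂, MonObj.comp_mul]
  rw [hm, ← mul_assoc, key (fst X X), mul_assoc, key (snd X X), mul_assoc]

end Groth.Agent.CentLocus
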