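import Groth.Agent.CentLocusLib.Com
import Groth.Agent.CentLocusLib.Field
import Groth.Agent.HomogSepLib.Main

/-!
Centrality of a homomorphism from a group of multiplicative type spreads to a neighbourhood.
-/

set_option autoImplicit false

noncomputable section

universe u

open CategoryTheory CategoryTheory.Limits MonoidalCategory CartesianMonoidalCategory AlgebraicGeometry CoactBr
open scoped MonObj TensorProduct

namespace Groth.Agent.CentLocus

open Groth.Agent.FreeAct (DA)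

attribute [local instance] CoactBr.braidedAlgSpecOf

variable {S : Scheme.{u}} {H G : Over S} [GrpObj H] [GrpObj G]

/-- Commutation with the first order neighbourhood of the unit over `κ`. -/
def InfC (u : H ⟶ G) {T₀ : Scheme.{u}} (κ : T₀ ⟶ S) : Prop :=
  ∀ (A : Type u) [CommRing A] (q : Spec (CommRingCat.of A) ⟶ T₀) (J : Ideal A), J ^ 2 = ⊥ →
    ∀ (g : Over.mk (q ≫ κ) ⟶ G) (h : Over.mk (q ≫ κ) ⟶ H),
      Spec.map (CommRingCat.ofHom (Ideal.Quotient.mk J)) ≫ g.left =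
        Spec.map (CommRingCat.ofHom (Ideal.Quotient.mk J)) ≫ (1 : Over.mk (q ≫ κ) ⟶ G).left →
      (h ≫ u) * g = g * (h ≫ u)

theorem InfC.comp {u : H ⟶ G} {T₀ T₁ : Scheme.{u}} {κ : T₀ ⟶ S} (hi : InfC u κ) (c : T₁ ⟶ T₀) :
    InfC u (c ≫ κ) := by
  intro A _ q J hJ g h hg
  let ε : Over.mk ((q ≫ c) ≫ κ) ⟶ Over.mk (q ≫ c ≫ κ) := Over.homMk (𝟙 _) (by
    show 𝟙 _ ≫ q ≫ c ≫ κ = (q ≫ c) ≫ κ
    rw [Category.id_comp, Category.assoc])
  haveI : IsIso ((Over.forget S).map ε) := inferInstanceAs (IsIso (𝟙 _))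
  haveI : IsIso ε := isIso_of_reflects_iso ε (Over.forget S)
  rw [← cancel_epi ε, MonObj.comp_mul, MonObj.comp_mul, ← Category.assoc]
  refine hi A (q ≫ c) J hJ (ε ≫ g) (ε ≫ h) ?_
  have h1 : (1 : Over.mk ((q ≫ c) ≫ κ) ⟶ G) = ε ≫ 1 := (MonObj.comp_one ε).symm
  rw [h1, Over.comp_left, Over.comp_left]
  show _ ≫ 𝟙 _ ≫ g.left = _ ≫ 𝟙 _ ≫ (1 : Over.mk (q ≫ c ≫ κ) ⟶ G).left
  rw [Category.id_comp, Category.id_comp]
  exact hg

theorem infC_of_centAt {u : H ⟶ G} {T₀ : Scheme.{u}} {κ : T₀ ⟶ S} (hc : CentAt u κ) : InfC u κ :=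
  fun _ _ q _ _ g h _ => (centAt_iff u κ).1 hc _ q rfl g h

section Piece

variable {R : Type u} [CommRing R] {M : Type} [AddCommGroup M] (p : Spec (CommRingCat.of R) ⟶ S)

theorem one_left {Y : Over S} : (1 : Y ⟶ G).left = Y.hom ≫ (η[G] : 𝟙_ (Over S) ⟶ G).left := by
  have ht : (toUnit Y).left = Y.hom :=
    (Category.comp_id _).symm.trans (Over.w (toUnit Y))
  rw [← ht]
  rfl

set_option maxHeartbeats 1000000 in
/-- The two forms of first order commutation agree on a split piece. -/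
theorem infR_iff (u : H ⟶ G) [IsMonHom u] (w : sp R (DA R M) ≅ Red.bc p H) {k : Type u} [CommRing k] (ψ : R →+* k) :
    InfR (G := Red.bc p G) (w.hom ≫ (Over.pullback p).map u) 2 ψ ↔
      InfC u (Spec.map (CommRingCat.ofHom ψ) ≫ p) := by
  let adj := Over.mapPullbackAdj p
  constructor
  · intro hR A _ q J hJ g h hg
    obtain ⟨φ, hφ⟩ := Spec.map_surjective q
    letI : Algebra R A := (φ.hom.comp ψ).toAlgebra
    let ε : (Over.map p).obj (sp R A) ⟶ Over.mk (q ≫ Spec.map (CommRingCat.ofHom ψ) ≫ p) := Over.homMk (𝟙 _) (by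
      show 𝟙 _ ≫ q ≫ Spec.map (CommRingCat.ofHom ψ) ≫ p = Spec.map (CommRingCat.ofHom (φ.hom.comp ψ)) ≫ p
      rw [Category.id_comp, ← hφ, CommRingCat.ofHom_comp, Spec.map_comp_assoc]
      rfl)
    haveI : IsIso ((Over.forget S).map ε) := inferInstanceAs (IsIso (𝟙 _))
    haveI : IsIso ε := isIso_of_reflects_iso ε (Over.forget S)
    rw [← cancel_epi ε, MonObj.comp_mul, MonObj.comp_mul, ← Category.assoc, ← map_comm_iff u p]
    obtain ⟨χ, hχ⟩ := DiagRep.exists_pt (adj.homEquiv (sp R A) H (ε ≫ h) ≫ w.inv)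
    have hh : adj.homEquiv (sp R A) H (ε ≫ h) = pt χ ≫ w.hom := by
      rw [← hχ, Category.assoc, w.inv_hom_id, Category.comp_id]
    rw [hh, Category.assoc]
    refine hR A φ.hom rfl J hJ (adj.homEquiv (sp R A) G (ε ≫ g)) ?_ χ
    have hone : adj.homEquiv (sp R (A ⧸ J)) G 1 = 1 := by
      have h0 := AlgGrp.Action.homEquiv_mul p (1 : (Over.map p).obj (sp R (A ⧸ J)) ⟶ G) 1
      rw [mul_one] at h0
      exact mul_eq_left.1 h0.symm
    rw [← hone, ← adj.homEquiv_naturality_left]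
    refine congrArg _ (Over.OverMorphism.ext ?_)
    have h1 : (1 : (Over.map p).obj (sp R (A ⧸ J)) ⟶ G) =
        (Over.map p).map (pt (Ideal.Quotient.mkₐ R J)) ≫ ε ≫ 1 := by rw [MonObj.comp_one, MonObj.comp_one]
    rw [h1, Over.comp_left, Over.comp_left, Over.comp_left, Over.comp_left]
    show Spec.map (CommRingCat.ofHom (Ideal.Quotient.mk J)) ≫ 𝟙 _ ≫ g.left =
      Spec.map (CommRingCat.ofHom (Ideal.Quotient.mk J)) ≫ 𝟙 _ ≫
        (1 : Over.mk (q ≫ Spec.map (CommRingCat.ofHom ψ) ≫ p) ⟶ G).left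
    exact congrArg₂ (· ≫ ·) rfl (Category.id_comp _) |>.trans (hg.trans
      (congrArg₂ (· ≫ ·) rfl (Category.id_comp _).symm))
  · intro hC T _ _ g hg J hJ x hx χ
    let ε : Over.mk (Spec.map (CommRingCat.ofHom g) ≫ Spec.map (CommRingCat.ofHom ψ) ≫ p) ⟶
        (Over.map p).obj (sp R T) := Over.homMk (𝟙 _) (by
      show 𝟙 _ ≫ Spec.map (CommRingCat.ofHom (algebraMap R T)) ≫ p = _ ≫ _ ≫ p
      rw [Category.id_comp, ← hg, CommRingCat.ofHom_comp, Spec.map_comp_assoc])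
    haveI : IsIso ((Over.forget S).map ε) := inferInstanceAs (IsIso (𝟙 _))
    haveI : IsIso ε := isIso_of_reflects_iso ε (Over.forget S)
    obtain ⟨x₀, rfl⟩ := (adj.homEquiv (sp R T) G).surjective x
    obtain ⟨h₀, hh₀⟩ := (adj.homEquiv (sp R T) H).surjective (pt χ ≫ w.hom)
    rw [← Category.assoc, ← hh₀]
    refine (map_comm_iff u p x₀ h₀).2 ?_
    rw [← cancel_epi ε, MonObj.comp_mul, MonObj.comp_mul]
    suffices h2 : ((ε ≫ h₀) ≫ u) * (ε ≫ x₀) = (ε ≫ x₀) * ((ε ≫ h₀) ≫ u) by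
      simp only [Category.assoc] at h2
      exact h2
    refine hC T (Spec.map (CommRingCat.ofHom g)) J hJ (ε ≫ x₀) (ε ≫ h₀) ?_
    have hone : adj.homEquiv (sp R (T ⧸ J)) G 1 = 1 := by
      have h0 := AlgGrp.Action.homEquiv_mul p (1 : (Over.map p).obj (sp R (T ⧸ J)) ⟶ G) 1
      rw [mul_one] at h0
      exact mul_eq_left.1 h0.symm
    rw [← hone, ← adj.homEquiv_naturality_left, (adj.homEquiv _ G).injective.eq_iff] at hx
    have h1 : ((Over.map p).map (pt (Ideal.Quotient.mkₐ R J)) ≫ x₀).left =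
        ((Over.map p).map (pt (Ideal.Quotient.mkₐ R J)) ≫ (1 : (Over.map p).obj (sp R T) ⟶ G)).left := by
      rw [hx, MonObj.comp_one]
    rw [Over.comp_left, Over.comp_left] at h1
    have e1 : (1 : Over.mk (Spec.map (CommRingCat.ofHom g) ≫ Spec.map (CommRingCat.ofHom ψ) ≫ p) ⟶ G) = ε ≫ 1 :=
      (MonObj.comp_one ε).symm
    rw [e1, Over.comp_left, Over.comp_left]
    show Spec.map (CommRingCat.ofHom (Ideal.Quotient.mk J)) ≫ 𝟙 _ ≫ x₀.left =
      Spec.map (CommRingCat.ofHom (Ideal.Quotient.mk J)) ≫ 𝟙 _ ≫ (1 : (Over.map p).obj (sp R T) ⟶ G).left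
    exact congrArg₂ (· ≫ ·) rfl (Category.id_comp _) |>.trans (h1.trans
      (congrArg₂ (· ≫ ·) rfl (Category.id_comp _).symm))

end Piece

/-- The part of a fibre product with an affine scheme lying over an affine chart is affine. -/
theorem isAffineOpen_preimage_fst {X Y T : Scheme.{u}} [IsAffine T] (f : X ⟶ Y) (g : T ⟶ Y)
    {U : Y.Opens} (hU : IsAffineOpen U) (hg : g ⁻¹ᵁ U = ⊤) {V : X.Opens} (hV : IsAffineOpen V)
    (hVU : V ≤ f ⁻¹ᵁ U) : IsAffineOpen (pullback.fst f g ⁻¹ᵁ V) := by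
  have hgU : Set.range g ⊆ Set.range U.ι := by
    rw [Scheme.Opens.range_ι]
    rintro _ ⟨t, rfl⟩
    have ht : t ∈ g ⁻¹ᵁ U := hg ▸ trivial
    exact ht
  let g' : T ⟶ U := IsOpenImmersion.lift U.ι g hgU
  have hg' : g' ≫ U.ι = g := IsOpenImmersion.lift_fac _ _ _
  have hfst : Set.range (pullback.fst f g) ⊆ Set.range (f ⁻¹ᵁ U).ι := by
    rw [Scheme.Opens.range_ι]
    rintro _ ⟨z, rfl⟩
    show f (pullback.fst f g z) ∈ U
    rw [← Scheme.Hom.comp_apply, pullback.condition, Scheme.Hom.comp_apply]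
    have ht : pullback.snd f g z ∈ g ⁻¹ᵁ U := hg ▸ trivial
    exact ht
  let fst' : pullback f g ⟶ (f ⁻¹ᵁ U : X.Opens) := IsOpenImmersion.lift (f ⁻¹ᵁ U).ι (pullback.fst f g) hfst
  have hfst' : fst' ≫ (f ⁻¹ᵁ U).ι = pullback.fst f g := IsOpenImmersion.lift_fac _ _ _
  have hw : fst' ≫ (f ∣_ U) = pullback.snd f g ≫ g' := by
    rw [← cancel_mono U.ι, Category.assoc, morphismRestrict_ι, ← Category.assoc, hfst',
      Category.assoc, hg', pullback.condition]
  have sq : IsPullback fst' (pullback.snd f g) (f ∣_ U) g' :=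
    IsPullback.of_right (hfst'.symm ▸ hg'.symm ▸ IsPullback.of_hasPullback f g) hw
      (isPullback_morphismRestrict f U).flip
  haveI : IsAffine (U : Scheme.{u}) := hU
  haveI : IsAffineHom g' := inferInstance
  haveI : IsAffineHom fst' := MorphismProperty.of_isPullback (P := @IsAffineHom) sq.flip inferInstance
  have : IsAffineOpen ((f ⁻¹ᵁ U).ι ⁻¹ᵁ V) :=
    hV.preimage_of_isOpenImmersion _ (by rwa [Scheme.Opens.opensRange_ι])
  rw [← hfst', Scheme.Hom.comp_preimage]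
  exact this.preimage fst'

/-- The geometric fibres are connected. -/
theorem connectedSpace_geom [LocallyOfFiniteType G.hom]
    (hconn : ∀ t : S, ConnectedSpace ↥(pullback G.hom (S.fromSpecResidueField t)))
    {K : Type u} [Field K] (κ : Spec (CommRingCat.of K) ⟶ S) : ConnectedSpace (Red.bc κ G).left := by
  let s : S := κ (IsLocalRing.closedPoint K)
  haveI := hconn s
  let Gs := Red.bc (S.fromSpecResidueField s) G
  haveI : ConnectedSpace Gs.left := ‹ConnectedSpace ↥(pullback G.hom (S.fromSpecResidueField s))›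
  haveI : GeometricallyConnected Gs.hom := HomogSep.gc_of_unit (k := S.residueField s) Gs
  let d : Spec (CommRingCat.of K) ⟶ Spec (S.residueField s) :=
    Spec.map (S.descResidueField (Scheme.stalkClosedPointTo κ))
  have hd : d ≫ S.fromSpecResidueField s = κ :=
    Scheme.descResidueField_stalkClosedPointTo_fromSpecResidueField K S κ
  let e : pullback Gs.hom d ≅ pullback G.hom κ :=
    pullbackLeftPullbackSndIso G.hom (S.fromSpecResidueField s) d ≪≫ pullback.congrHom rfl hd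
  haveI : Nonempty ↥(pullback Gs.hom d) :=
    ⟨e.inv ((η[Red.bc κ G] : 𝟙_ (Over (Spec (CommRingCat.of K))) ⟶ Red.bc κ G).left (IsLocalRing.closedPoint K))⟩
  haveI : Subsingleton ↥(Spec (CommRingCat.of K)) := inferInstanceAs (Subsingleton (PrimeSpectrum K))
  haveI : ConnectedSpace ↥(pullback Gs.hom d) :=
    GeometricallyConnected.connectedSpace_of_subsingleton (f := pullback.snd Gs.hom d)
  exact (Scheme.homeoOfIso e).surjective.connectedSpace (Scheme.homeoOfIso e).continuous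

set_option maxHeartbeats 1000000 in
/-- Spreading of centrality on a split piece. -/
theorem exists_nhd_piece [LocallyOfFiniteType G.hom]
    (hconn : ∀ t : S, ConnectedSpace ↥(pullback G.hom (S.fromSpecResidueField t)))
    (u : H ⟶ G) [IsMonHom u] {R : Type u} [CommRing R] {M : Type} [AddCommGroup M] {U : Scheme.{u}} {g : U ⟶ S}
    (e : Grp.mk (Red.bc g H) ≅ Grp.mk (Red.DS U M)) (j : Spec (CommRingCat.of R) ⟶ U)
    (p : Spec (CommRingCat.of R) ⟶ S) (hp : j ≫ g = p)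
    (W : S.Opens) (hW : IsAffineOpen W) (hpW : ∀ t, p t ∈ W) (V₀ : G.left.Opens) (hV₀ : IsAffineOpen V₀)
    (hV₀W : V₀ ≤ G.hom ⁻¹ᵁ W) (hηV : ∀ t, (η[G] : 𝟙_ (Over S) ⟶ G).left (p t) ∈ V₀)
    (q : PrimeSpectrum R) (hx : CentAt u (S.fromSpecResidueField (p q))) :
    ∃ r : R, q ∈ PrimeSpectrum.basicOpen r ∧ ∀ t ∈ PrimeSpectrum.basicOpen r,
      CentAt u (S.fromSpecResidueField (p t)) := by
  obtain ⟨w, hw⟩ := MultLift.exists_split_iso e j p hp
  haveI := hw
  haveI : IsMonHom (M := Red.bc p H) (N := Red.bc p G) ((Over.pullback p).map u) := DiagRep.isMonHom_bc_map p u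
  let v : sp R (DA R M) ⟶ Red.bc p G := w.hom ≫ (Over.pullback p).map u
  haveI : IsMonHom v := inferInstanceAs (IsMonHom (w.hom ≫ (Over.pullback p).map u))
  haveI : LocallyOfFiniteType (Red.bc p G).hom := inferInstanceAs (LocallyOfFiniteType (pullback.snd G.hom p))
  let V : (Red.bc p G).left.Opens := pullback.fst G.hom p ⁻¹ᵁ V₀
  have hV : IsAffineOpen V := isAffineOpen_preimage_fst G.hom p hW
    (TopologicalSpace.Opens.ext (Set.eq_univ_of_forall hpW)) hV₀ hV₀W
  have hη : Set.range (η[Red.bc p G] : 𝟙_ (Over (Spec (CommRingCat.of R))) ⟶ Red.bc p G).left ⊆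
      (V : Set (Red.bc p G).left) := by
    rintro _ ⟨y, rfl⟩
    show pullback.fst G.hom p ((η[Red.bc p G] : 𝟙_ (Over (Spec (CommRingCat.of R))) ⟶ Red.bc p G).left y) ∈ V₀
    rw [← Scheme.Hom.comp_apply]
    have he : (η[Red.bc p G] : 𝟙_ (Over (Spec (CommRingCat.of R))) ⟶ Red.bc p G).left ≫ pullback.fst G.hom p =
        p ≫ (η[G] : 𝟙_ (Over S) ⟶ G).left := by
      have h1 : ((Over.mapPullbackAdj p).homEquiv (𝟙_ (Over (Spec (CommRingCat.of R)))) G).symm 1 = 1 := by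
        rw [Equiv.symm_apply_eq]
        have h0 := AlgGrp.Action.homEquiv_mul p (1 : (Over.map p).obj (𝟙_ (Over (Spec (CommRingCat.of R)))) ⟶ G) 1
        rw [mul_one] at h0
        exact (mul_eq_left.1 h0.symm).symm
      have h3 : ∀ y : 𝟙_ (Over (Spec (CommRingCat.of R))) ⟶ Red.bc p G,
          (((Over.mapPullbackAdj p).homEquiv _ G).symm y).left = y.left ≫ pullback.fst G.hom p := fun y => by
        rw [Adjunction.homEquiv_counit]
        simp
      have h2 := congrArg CommaMorphism.left h1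
      refine (Eq.trans ?_ h2).trans ?_
      · have h4 : (1 : 𝟙_ (Over (Spec (CommRingCat.of R))) ⟶ Red.bc p G) =
            (η[Red.bc p G] : 𝟙_ (Over (Spec (CommRingCat.of R))) ⟶ Red.bc p G) := by
          rw [MonObj.one_eq_one]
        exact h4 ▸ (h3 1).symm
      · refine (one_left (G := G) (Y := (Over.map p).obj (𝟙_ (Over (Spec (CommRingCat.of R)))))).trans ?_
        show (𝟙 _ ≫ p) ≫ _ = _
        rw [Category.id_comp]
    rw [he, Scheme.Hom.comp_apply]
    exact hηV y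
  let F := q.asIdeal.ResidueField
  have hpt : ∀ (t : PrimeSpectrum R) (K : Type u) [Field K] (ψ : R →+* K), RingHom.ker ψ = t.asIdeal →
      (Spec.map (CommRingCat.ofHom ψ) ≫ p) (IsLocalRing.closedPoint K) = p t := by
    intro t K _ ψ hψ
    rw [Scheme.Hom.comp_apply]
    refine congrArg (fun b => p b) (PrimeSpectrum.ext ?_)
    show Ideal.comap ψ (IsLocalRing.maximalIdeal K) = t.asIdeal
    rw [IsLocalRing.isField_iff_maximalIdeal_eq.1 (Field.toIsField K)]
    exact hψ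
  have hinf : InfR v 2 (algebraMap R F) := by
    rw [infR_iff]
    refine infC_of_centAt ((TrivLocus.triv_field_iff (u := com u) _).2 ?_)
    rw [hpt q F (algebraMap R F) (Ideal.ker_algebraMap_residueField _)]
    exact hx
  obtain ⟨r, hr, hrT⟩ := exists_nhd_inf v V hV hη q.asIdeal hinf
  refine ⟨r, hr, fun t ht => ?_⟩
  let K := AlgebraicClosure t.asIdeal.ResidueField
  let ψ : R →+* K := (algebraMap t.asIdeal.ResidueField K).comp (algebraMap R t.asIdeal.ResidueField)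
  have hker : RingHom.ker ψ = t.asIdeal := by
    rw [RingHom.ker_comp_of_injective _ (algebraMap t.asIdeal.ResidueField K).injective]
    exact Ideal.ker_algebraMap_residueField _
  have hC : InfC u (Spec.map (CommRingCat.ofHom ψ) ≫ p) := by
    rw [← infR_iff p u w]
    exact hrT K ψ fun h => ht (hker ▸ RingHom.mem_ker.2 h)
  let κ : Spec (CommRingCat.of K) ⟶ S := Spec.map (CommRingCat.ofHom ψ) ≫ p
  obtain ⟨wk, hwk⟩ := MultLift.exists_split_iso e (Spec.map (CommRingCat.ofHom ψ) ≫ j) κ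
    (by rw [Category.assoc, hp])
  haveI := hwk
  haveI : IsMonHom (M := Red.bc κ H) (N := Red.bc κ G) ((Over.pullback κ).map u) := DiagRep.isMonHom_bc_map κ u
  let vk : sp K (DA K M) ⟶ Red.bc κ G := wk.hom ≫ (Over.pullback κ).map u
  haveI : IsMonHom vk := inferInstanceAs (IsMonHom (wk.hom ≫ (Over.pullback κ).map u))
  haveI : LocallyOfFiniteType (Red.bc κ G).hom := inferInstanceAs (LocallyOfFiniteType (pullback.snd G.hom κ))
  haveI : ConnectedSpace (Red.bc κ G).left := connectedSpace_geom hconn κ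
  have hinfk : InfR vk 2 (RingHom.id K) := by
    rw [infR_iff]
    exact hC.comp _
  have hcomm := comm_of_inf vk hinfk
  have hcent : CentAt u κ := by
    rw [centAt_bc_iff]
    intro X g h
    have h1 := congrArg (lift g (h ≫ wk.inv) ≫ ·) hcomm
    simpa [MonObj.comp_mul, vk] using h1
  have h2 := (TrivLocus.triv_field_iff (u := com u) κ).1 hcent
  rw [hpt t K ψ hker] at h2
  exact h2

set_option maxHeartbeats 1000000 in
/-- The locus of centrality is open. -/
theorem isOpen_locus [LocallyOfFiniteType G.hom]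
    (hconn : ∀ t : S, ConnectedSpace ↥(pullback G.hom (S.fromSpecResidueField t)))
    (u : H ⟶ G) [IsMonHom u] (hH : SGA3x.IsMultTypeFT H) :
    IsOpen {s : S | CentAt u (S.fromSpecResidueField s)} := by
  obtain ⟨S', f, hflat, hsurj, hcov, hloc⟩ := hH
  haveI := hflat
  haveI := hsurj
  let W₀ : Set S := {s | CentAt u (S.fromSpecResidueField s)}
  have hopen : IsOpen (f ⁻¹' W₀) := by
    refine isOpen_iff_forall_mem_open.2 fun x hx => ?_
    obtain ⟨U, hxU, M, _, _, ⟨e⟩⟩ := hloc x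
    obtain ⟨W, hW, hxW, -⟩ := exists_isAffineOpen_mem_and_subset (X := S) (x := f x) (U := ⊤) trivial
    let ηS : S ⟶ G.left := (η[G] : 𝟙_ (Over S) ⟶ G).left
    have hηx : ηS (f x) ∈ G.hom ⁻¹ᵁ W := by
      show G.hom (ηS (f x)) ∈ W
      rw [← Scheme.Hom.comp_apply, show ηS ≫ G.hom = 𝟙 S from Over.w _]
      exact hxW
    obtain ⟨V₀, hV₀, hxV₀, hV₀W⟩ := exists_isAffineOpen_mem_and_subset (X := G.left) hηx
    obtain ⟨T, hT, hxT, hTU⟩ := exists_isAffineOpen_mem_and_subset (X := S') (x := x)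
      (U := U ⊓ f ⁻¹ᵁ (W ⊓ ηS ⁻¹ᵁ V₀)) ⟨hxU, hxW, hxV₀⟩
    haveI : IsAffine (T : Scheme.{u}) := hT
    let R : Type u := Γ((T : Scheme.{u}), ⊤)
    let ι' : Spec (CommRingCat.of R) ⟶ S' := (T : Scheme.{u}).isoSpec.inv ≫ T.ι
    haveI : IsOpenImmersion ι' := inferInstanceAs (IsOpenImmersion ((T : Scheme.{u}).isoSpec.inv ≫ T.ι))
    obtain ⟨a, ha⟩ : x ∈ Set.range ι' := by
      obtain ⟨a, ha⟩ := (T : Scheme.{u}).isoSpec.inv.surjective ⟨x, hxT⟩
      refine ⟨a, ?_⟩
      show ((T : Scheme.{u}).isoSpec.inv ≫ T.ι) a = x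
      rw [Scheme.Hom.comp_apply, ha]
      rfl
    have hmem : ∀ t, f (ι' t) ∈ W ∧ ηS (f (ι' t)) ∈ V₀ := fun t => (hTU ((T : Scheme.{u}).isoSpec.inv t).2).2
    obtain ⟨g, hg, hgW⟩ := exists_nhd_piece hconn u e
      ((T : Scheme.{u}).isoSpec.inv ≫ S'.homOfLE (hTU.trans inf_le_left)) (ι' ≫ f) (by
      rw [Category.assoc, Scheme.homOfLE_ι_assoc, ← Category.assoc]
      rfl) W hW (fun t => (hmem t).1) V₀ hV₀ hV₀W (fun t => (hmem t).2) a (by
      show CentAt u (S.fromSpecResidueField (f (ι' a)))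
      rw [ha]
      exact hx)
    refine ⟨ι' '' {t | t ∈ PrimeSpectrum.basicOpen g}, ?_,
      ι'.isOpenEmbedding.isOpenMap _ (PrimeSpectrum.basicOpen g).isOpen, ⟨a, hg, ha⟩⟩
    rintro _ ⟨t, ht, rfl⟩
    exact hgW t ht
  refine isOpen_iff_forall_mem_open.2 fun y hy => ?_
  obtain ⟨V, hV, hyV, -⟩ := exists_isAffineOpen_mem_and_subset (X := S) (x := y) (U := ⊤) trivial
  obtain ⟨W, hW, hWV⟩ := hcov V hV
  have hle : W ≤ f ⁻¹ᵁ V := fun z hz => by
    show f.base z ∈ (V : Set S)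
    rw [← hWV]
    exact ⟨z, hz, rfl⟩
  let g : (W : Scheme.{u}) ⟶ V := f.resLE V W hle
  haveI : Flat g := by
    haveI : Flat (g ≫ V.ι) := by
      rw [Scheme.Hom.resLE_comp_ι]; infer_instance
    exact MorphismProperty.of_postcomp (W' := @IsOpenImmersion) @Flat g V.ι inferInstance inferInstance
  have hg : ∀ z : (W : Scheme.{u}), V.ι (g z) = f (W.ι z) := fun z => by
    rw [← Scheme.Hom.comp_apply, ← Scheme.Hom.comp_apply, Scheme.Hom.resLE_comp_ι]
  haveI : Surjective g := ⟨fun v => by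
    have hv : V.ι v ∈ f.base '' (W : Set S') := by rw [hWV]; exact v.2
    obtain ⟨z, hz, hzv⟩ := hv
    exact ⟨⟨z, hz⟩, V.ι.isOpenEmbedding.injective ((hg ⟨z, hz⟩).trans hzv)⟩⟩
  haveI : CompactSpace (W : Scheme.{u}) := isCompact_iff_compactSpace.1 hW
  haveI : IsAffine (V : Scheme.{u}) := hV
  haveI : QuasiCompact g := quasiCompact_iff_compactSpace g |>.2 inferInstance
  have hpre : IsOpen (V.ι ⁻¹' W₀) := (Flat.isQuotientMap_of_surjective g).isOpen_preimage.1 (by
    have h1 : g ⁻¹' (V.ι ⁻¹' W₀) = W.ι ⁻¹' (f ⁻¹' W₀) := Set.ext fun z => by simp only [Set.mem_preimage, hg]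
    exact h1 ▸ hopen.preimage W.ι.continuous)
  exact ⟨V.ι '' (V.ι ⁻¹' W₀), by rintro _ ⟨z, hz, rfl⟩; exact hz, V.ι.isOpenEmbedding.isOpenMap _ hpre,
    ⟨y, hyV⟩, hy, rfl⟩

end Groth.Agent.CentLocus
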