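import Groth.Agent.FibTrivLib.Algebra

/-!
Coactions on infinitesimal neighbourhoods of a fixed point.
-/

set_option autoImplicit false

noncomputable section

universe u

open scoped TensorProduct

namespace Groth.Agent.CentLocus

open Groth.Agent.FreeAct (DA bas bas_apply IsAct co co_apply exists_finset_co co_of_weight)

variable {R : Type u} [CommRing R] {B : Type u} [CommRing B] [Algebra R B] {M : Type} [AddCommGroup M]
  {ρ : B →ₐ[R] DA R M ⊗[R] B}

/-- The coordinate of weight `m`. -/
def coord (R : Type u) [CommRing R] (B : Type u) [AddCommGroup B] [Module R B] (M : Type) [AddCommGroup M]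
    (m : Multiplicative M) : DA R M ⊗[R] B →ₗ[R] B :=
  (TensorProduct.lid R B).toLinearMap ∘ₗ LinearMap.rTensor B ((bas R M).coord m)

theorem coord_bas_tmul [DecidableEq (Multiplicative M)] (m j : Multiplicative M) (b : B) :
    coord R B M m (bas R M j ⊗ₜ[R] b) = if j = m then b else 0 := by
  simp only [coord, LinearMap.comp_apply, LinearMap.rTensor_tmul, LinearEquiv.coe_coe, TensorProduct.lid_tmul,
    Module.Basis.coord_apply, Module.Basis.repr_self, Finsupp.single_apply]
  split_ifs <;> simp

/-- The coordinates of an element of the extended ideal lie in the ideal. -/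
theorem coord_mem (K : Ideal B) {z : DA R M ⊗[R] B}
    (hz : z ∈ K.map (Algebra.TensorProduct.includeRight : B →ₐ[R] DA R M ⊗[R] B).toRingHom) (m : Multiplicative M) :
    coord R B M m z ∈ K := by
  have hker : K.map (Algebra.TensorProduct.includeRight : B →ₐ[R] DA R M ⊗[R] B).toRingHom ≤
      RingHom.ker (Algebra.TensorProduct.map (AlgHom.id R (DA R M)) (Ideal.Quotient.mkₐ R K)).toRingHom := by
    rw [Ideal.map_le_iff_le_comap]
    intro x hx
    simp [RingHom.mem_ker, Ideal.Quotient.eq_zero_iff_mem.2 hx]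
  have hnat : ∀ w, coord R (B ⧸ K) M m (Algebra.TensorProduct.map (AlgHom.id R (DA R M)) (Ideal.Quotient.mkₐ R K) w) =
      Ideal.Quotient.mkₐ R K (coord R B M m w) := by
    intro w
    induction w using TensorProduct.induction_on with
    | zero => simp
    | add x y hx hy => simp only [map_add, hx, hy]
    | tmul x y => simp [coord, map_smul]
  have h1 := hnat z
  rw [show Algebra.TensorProduct.map (AlgHom.id R (DA R M)) (Ideal.Quotient.mkₐ R K) z = 0 from
    RingHom.mem_ker.1 (hker hz), map_zero] at h1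
  exact Ideal.Quotient.eq_zero_iff_mem.1 h1.symm

theorem sub_eq_sum [DecidableEq (Multiplicative M)] (h : IsAct ρ) (b : B) :
    ∃ F : Finset (Multiplicative M), ρ b - 1 ⊗ₜ[R] b =
      ∑ m ∈ F, ((bas R M m - 1) ⊗ₜ[R] co ρ m b) := by
  obtain ⟨F, hF⟩ := exists_finset_co (ρ := ρ) b
  refine ⟨F, ?_⟩
  have h1 : ∑ m ∈ F, co ρ m b = b := by
    conv_rhs => rw [← h.unit b, hF F subset_rfl, map_sum, map_sum]
    exact Finset.sum_congr rfl fun m _ => by simp [bas_apply]
  conv_lhs => rw [hF F subset_rfl]; arg 2; rw [← h1, TensorProduct.tmul_sum]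
  rw [← Finset.sum_sub_distrib]
  exact Finset.sum_congr rfl fun m _ => by rw [TensorProduct.sub_tmul]

/-- A coaction trivial modulo the square of the ideal of a fixed point is trivial on its infinitesimal
neighbourhoods. -/
theorem eq_one_tmul_of_sq (h : IsAct ρ) (I : Ideal B) {n : ℕ} (hn : I ^ n = ⊥)
    (hgen : ∀ b : B, ∃ r : R, b - algebraMap R B r ∈ I)
    (h2 : ∀ b, ρ b - 1 ⊗ₜ[R] b ∈
      (I.map (Algebra.TensorProduct.includeRight : B →ₐ[R] DA R M ⊗[R] B).toRingHom) ^ 2) (b : B) :
    ρ b = 1 ⊗ₜ[R] b := by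
  classical
  let J := I.map (Algebra.TensorProduct.includeRight : B →ₐ[R] DA R M ⊗[R] B).toRingHom
  have hJ : ∀ k, J ^ k = (I ^ k).map (Algebra.TensorProduct.includeRight : B →ₐ[R] DA R M ⊗[R] B).toRingHom :=
    fun k => (Ideal.map_pow _ _ _).symm
  have hρI : ∀ a ∈ I, ρ a ∈ J := fun a ha => by
    have h3 : ρ a - 1 ⊗ₜ[R] a ∈ J := Ideal.pow_le_self two_ne_zero (h2 a)
    have h4 : (1 : DA R M) ⊗ₜ[R] a ∈ J := Ideal.mem_map_of_mem _ ha
    simpa using add_mem h3 h4
  have key : ∀ k, 2 ≤ k → ∀ b, ρ b - 1 ⊗ₜ[R] b ∈ J ^ k := by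
    intro k hk
    induction k, hk using Nat.le_induction with
    | base => exact h2
    | succ k hk ih =>
      have hprod : ∀ x ∈ I ^ 2, ρ x - 1 ⊗ₜ[R] x ∈ J ^ (k + 1) := by
        intro x hx
        rw [pow_two] at hx
        induction hx using Submodule.smul_induction_on' with
        | smul a ha c hc =>
          rw [smul_eq_mul, map_mul]
          have e : ρ a * ρ c - 1 ⊗ₜ[R] (a * c) =
              (ρ a - 1 ⊗ₜ[R] a) * ρ c + (1 ⊗ₜ[R] a) * (ρ c - 1 ⊗ₜ[R] c) := by
            rw [sub_mul, mul_sub, Algebra.TensorProduct.tmul_mul_tmul, one_mul]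
            abel
          rw [e]
          refine add_mem ?_ ?_
          · exact (show J ^ k * J ≤ J ^ (k + 1) from le_of_eq (pow_succ J k).symm)
              (Ideal.mul_mem_mul (ih a) (hρI c hc))
          · exact (show J * J ^ k ≤ J ^ (k + 1) from le_of_eq (pow_succ' J k).symm)
              (Ideal.mul_mem_mul (Ideal.mem_map_of_mem _ ha) (ih c))
        | add x _ y _ hx hy =>
          rw [map_add, TensorProduct.tmul_add, add_sub_add_comm]
          exact add_mem hx hy
      intro b
      obtain ⟨F, hF⟩ := sub_eq_sum h b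
      rw [hF]
      refine Ideal.sum_mem _ fun m _ => ?_
      by_cases hm : m = 1
      · subst hm
        rw [bas_apply, ← MonoidAlgebra.one_def, sub_self, TensorProduct.zero_tmul]
        exact zero_mem _
      let x := co ρ m b
      have hx : ρ x = bas R M m ⊗ₜ[R] x := h.rho_co m b
      have hb1 : bas R M 1 = (1 : DA R M) := by rw [bas_apply, ← MonoidAlgebra.one_def]
      have hcoord : ∀ j, ρ x - 1 ⊗ₜ[R] x ∈ J ^ j → x ∈ I ^ j := fun j hj => by
        rw [hJ j] at hj
        have := coord_mem (I ^ j) hj m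
        rwa [map_sub, hx, ← hb1, coord_bas_tmul, coord_bas_tmul, if_pos rfl, if_neg (fun e => hm e.symm),
          sub_zero] at this
      have hxk := hcoord k (ih x)
      have h4 := hprod x (Ideal.pow_le_pow_right hk hxk)
      have h5 := hcoord (k + 1) h4
      have e : (bas R M m - 1) ⊗ₜ[R] x = ((bas R M m - 1) ⊗ₜ[R] (1 : B)) * ((1 : DA R M) ⊗ₜ[R] x) := by
        rw [Algebra.TensorProduct.tmul_mul_tmul, mul_one, one_mul]
      rw [e, hJ]
      exact Ideal.mul_mem_left _ _ (Ideal.mem_map_of_mem _ h5)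
  have hfin := key (n + 2) (by omega) b
  rw [hJ, pow_add, hn, Ideal.bot_mul, Ideal.map_bot] at hfin
  exact sub_eq_zero.1 ((Submodule.mem_bot _).1 hfin)

/-- If all nontrivial weights vanish at a prime they vanish on a neighbourhood of it. -/
theorem exists_basicOpen (h : IsAct ρ) (I : Ideal B) (hI : I.FG) (hI2 : I ^ 2 = ⊥)
    (hgen : ∀ b : B, ∃ r : R, b - algebraMap R B r ∈ I) (q : Ideal R) [q.IsPrime]
    (h0 : ∀ m : Multiplicative M, m ≠ 1 → ∀ b, ∃ s ∉ q, s • co ρ m b ∈ q • (⊤ : Submodule R B)) :
    ∃ f ∉ q, ∀ b, f • (ρ b - 1 ⊗ₜ[R] b) = 0 := by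
  classical
  obtain ⟨gens, hgens⟩ := hI
  -- the ideal is generated as a module
  have hspan : ∀ x ∈ I, x ∈ Submodule.span R (gens : Set B) := by
    intro x hx
    rw [← hgens] at hx
    induction hx using Submodule.span_induction with
    | mem y hy => exact Submodule.subset_span hy
    | zero => exact zero_mem _
    | add y z _ _ hy hz => exact add_mem hy hz
    | smul a y hy hy' =>
      obtain ⟨r, hr⟩ := hgen a
      have hyI : y ∈ I := hgens ▸ hy
      have h1 : (a - algebraMap R B r) * y = 0 := by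
        have := Ideal.mul_mem_mul hr hyI
        rw [← pow_two, hI2] at this
        exact (Submodule.mem_bot _).1 this
      rw [sub_mul, sub_eq_zero] at h1
      rw [smul_eq_mul, h1, ← Algebra.smul_def]
      exact Submodule.smul_mem _ _ hy'
  choose F hF using fun b : B => exists_finset_co (ρ := ρ) b
  let T : Finset (Multiplicative M) := (gens.biUnion F).erase 1
  have hco1 : ∀ m : Multiplicative M, m ≠ 1 → ∀ r : R, co ρ m (algebraMap R B r) = 0 := fun m hm r => by
    have h1 : ρ (1 : B) = bas R M 1 ⊗ₜ[R] (1 : B) := by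
      rw [map_one, bas_apply, ← MonoidAlgebra.one_def]; rfl
    rw [Algebra.algebraMap_eq_smul_one, map_smul, co_of_weight h1, if_neg (fun e => hm e.symm), smul_zero]
  have hcog : ∀ g ∈ gens, ∀ m ∉ F g, co ρ m g = 0 := fun g _ m hm => by
    have := hF g (F g) subset_rfl
    rw [co_apply, this, map_sum, map_sum]
    refine Finset.sum_eq_zero fun j hj => ?_
    have hjm : j ≠ m := fun e => hm (e ▸ hj)
    simp [hjm]
  -- each weight space is killed near `q`
  have hann : ∀ m ∈ T, ∃ f ∉ q, ∀ b, f • co ρ m b = 0 := by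
    intro m hm
    have hm1 : m ≠ 1 := (Finset.mem_erase.1 hm).1
    let N : Submodule R B := Submodule.span R (co ρ m '' (gens : Set B))
    have hN : ∀ b, co ρ m b ∈ N := fun b => by
      obtain ⟨r, hr⟩ := hgen b
      have h1 : co ρ m (b - algebraMap R B r) ∈ N := by
        have := Submodule.mem_map_of_mem (f := co ρ m) (hspan _ hr)
        rwa [Submodule.map_span] at this
      rwa [map_sub, hco1 m hm1, sub_zero] at h1
    choose s hs hsm using fun g : B => h0 m hm1 g
    let t := ∏ g ∈ gens, s g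
    have ht : t ∉ q := fun e => by
      obtain ⟨g, -, hg⟩ := Ideal.IsPrime.prod_mem_iff.1 e
      exact hs g hg
    have hqN : ∀ x ∈ N, t • x ∈ q • N := by
      intro x hx
      induction hx using Submodule.span_induction with
      | mem y hy =>
        obtain ⟨g, hg, rfl⟩ := hy
        have h1 : s g • co ρ m g ∈ q • N := by
          have := hsm g
          rw [← h.co_co m g]
          have h2 := Submodule.mem_map_of_mem (f := co ρ m) this
          rw [Submodule.map_smul'', map_smul] at h2
          exact Submodule.smul_mono (le_refl q) (by rintro _ ⟨z, -, rfl⟩; exact hN z) h2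
        obtain ⟨c, hc⟩ := Finset.dvd_prod_of_mem s hg
        show (∏ g ∈ gens, s g) • co ρ m g ∈ _
        rw [hc, mul_comm, mul_smul]
        exact Submodule.smul_mem _ _ h1
      | zero => simp
      | add y z _ _ hy hz => rw [smul_add]; exact add_mem hy hz
      | smul a y _ hy => rw [smul_comm]; exact Submodule.smul_mem _ _ hy
    haveI : Module.Finite R N :=
      Module.Finite.iff_fg.2 (Submodule.fg_span ((gens.finite_toSet).image _))
    obtain ⟨p, hp, -, hpq, hp0⟩ := LinearMap.exists_monic_and_natDegree_eq_and_coeff_mem_pow_and_aeval_eq_zero R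
      (t • LinearMap.id : N →ₗ[R] N) q (by
        rintro _ ⟨x, rfl⟩
        rw [Submodule.mem_smul_top_iff]
        exact hqN x x.2)
    refine ⟨p.eval t, fun e => ?_, fun b => ?_⟩
    · refine ht (Ideal.IsPrime.mem_of_pow_mem inferInstance p.natDegree ?_)
      rw [Polynomial.eval_eq_sum_range, Finset.sum_range_succ, hp.coeff_natDegree, one_mul] at e
      refine (Submodule.add_mem_iff_right _ (Ideal.sum_mem _ fun k hk => Ideal.mul_mem_right _ _ ?_)).1 e
      exact Ideal.pow_le_self (Nat.sub_ne_zero_of_lt (Finset.mem_range.1 hk)) (hpq k)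
    · have h3 := LinearMap.congr_fun hp0 ⟨co ρ m b, hN b⟩
      rw [show (t • LinearMap.id : N →ₗ[R] N) = algebraMap R (Module.End R N) t from rfl,
        Polynomial.aeval_algebraMap_apply, LinearMap.zero_apply, Module.algebraMap_end_apply] at h3
      simpa [Polynomial.coe_aeval_eq_eval] using congrArg Subtype.val h3
  choose f hf hf0 using hann
  let g₀ := ∏ m ∈ T.attach, f m.1 m.2
  have hzero : ∀ m : Multiplicative M, m ≠ 1 → ∀ b, g₀ • co ρ m b = 0 := by
    intro m hm b
    by_cases hmT : m ∈ T
    · obtain ⟨c, hc⟩ := Finset.dvd_prod_of_mem (fun m : T => f m.1 m.2) (Finset.mem_attach T ⟨m, hmT⟩)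
      show (∏ m ∈ T.attach, f m.1 m.2) • co ρ m b = 0
      rw [hc, mul_comm, mul_smul, hf0 m hmT b, smul_zero]
    · have hg : ∀ g ∈ gens, co ρ m g = 0 := fun g hg => hcog g hg m fun e =>
        hmT (Finset.mem_erase.2 ⟨hm, Finset.mem_biUnion.2 ⟨g, hg, e⟩⟩)
      obtain ⟨r, hr⟩ := hgen b
      have h2 : co ρ m (b - algebraMap R B r) = 0 := by
        have := Submodule.mem_map_of_mem (f := co ρ m) (hspan _ hr)
        rw [Submodule.map_span] at this
        have hle : Submodule.span R (co ρ m '' (gens : Set B)) ≤ ⊥ := Submodule.span_le.2 (by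
          rintro _ ⟨g, hg', rfl⟩
          exact (Submodule.mem_bot R).2 (hg g hg'))
        exact (Submodule.mem_bot R).1 (hle this)
      rw [map_sub, hco1 m hm, sub_zero] at h2
      rw [h2, smul_zero]
  refine ⟨g₀, fun e => ?_, fun b => ?_⟩
  · obtain ⟨m, -, hm⟩ := Ideal.IsPrime.prod_mem_iff.1 e
    exact hf m.1 m.2 hm
  · obtain ⟨F', hF'⟩ := sub_eq_sum h b
    rw [hF', Finset.smul_sum]
    refine Finset.sum_eq_zero fun m _ => ?_
    by_cases hm : m = 1
    · subst hm
      rw [bas_apply, ← MonoidAlgebra.one_def, sub_self, TensorProduct.zero_tmul, smul_zero]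
    · rw [← TensorProduct.tmul_smul, hzero m hm, TensorProduct.tmul_zero]

end Groth.Agent.CentLocus
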