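import Groth.Agent.TrivLocusLib.Basic

/-!
The locus over which a homomorphism is central, through the commutator.
-/

set_option autoImplicit false

noncomputable section

universe u

open CategoryTheory CategoryTheory.Limits MonoidalCategory CartesianMonoidalCategory AlgebraicGeometry
open scoped MonObj

namespace Groth.Agent.CentLocus

variable {S : Scheme.{u}} {H G : Over S} [GrpObj G]

/-- The commutator with the image of `u`. -/
def com (u : H ⟶ G) : H ⊗ G ⟶ G :=
  (fst H G ≫ u) * snd H G * (fst H G ≫ u)⁻¹ * (snd H G)⁻¹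

theorem lift_com_eq_one_iff (u : H ⟶ G) {Y : Over S} (h : Y ⟶ H) (g : Y ⟶ G) :
    lift h g ≫ com u = 1 ↔ (h ≫ u) * g = g * (h ≫ u) := by
  simp only [com, MonObj.comp_mul, GrpObj.comp_inv, lift_fst_assoc, lift_snd]
  rw [mul_inv_eq_one, mul_inv_eq_iff_eq_mul]

/-- The image of `u` is central over `κ`. -/
def CentAt (u : H ⟶ G) {T : Scheme.{u}} (κ : T ⟶ S) : Prop := TrivLocus.Triv (com u) κ

theorem centAt_iff (u : H ⟶ G) {T : Scheme.{u}} (κ : T ⟶ S) :
    CentAt u κ ↔ ∀ (Y : Over S) (q : Y.left ⟶ T), q ≫ κ = Y.hom →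
      ∀ (g : Y ⟶ G) (h : Y ⟶ H), (h ≫ u) * g = g * (h ≫ u) := by
  constructor
  · intro hc Y q hq g h
    exact (lift_com_eq_one_iff u h g).1 (hc Y q hq (lift h g))
  · intro hc Y q hq y
    have e : y = lift (y ≫ fst H G) (y ≫ snd H G) := by ext <;> simp
    rw [e]
    exact (lift_com_eq_one_iff u _ _).2 (hc Y q hq _ _)

theorem map_comm_iff [GrpObj H] (u : H ⟶ G) {T : Scheme.{u}} (p : T ⟶ S) {X : Over T} (g : (Over.map p).obj X ⟶ G)
    (h : (Over.map p).obj X ⟶ H) :
    (((Over.mapPullbackAdj p).homEquiv X H h ≫ (Over.pullback p).map u : X ⟶ Red.bc p G) *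
          (Over.mapPullbackAdj p).homEquiv X G g =
        (Over.mapPullbackAdj p).homEquiv X G g *
          ((Over.mapPullbackAdj p).homEquiv X H h ≫ (Over.pullback p).map u : X ⟶ Red.bc p G)) ↔
      (h ≫ u) * g = g * (h ≫ u) := by
  rw [← Adjunction.homEquiv_naturality_right, ← AlgGrp.Action.homEquiv_mul, ← AlgGrp.Action.homEquiv_mul,
    ((Over.mapPullbackAdj p).homEquiv X G).injective.eq_iff]

/-- Centrality over `p` is centrality of the base change. -/
theorem centAt_bc_iff [GrpObj H] (u : H ⟶ G) {T : Scheme.{u}} (p : T ⟶ S) :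
    CentAt u p ↔ ∀ (X : Over T) (g : X ⟶ Red.bc p G) (h : X ⟶ Red.bc p H),
      (h ≫ (Over.pullback p).map u : X ⟶ Red.bc p G) * g = g * (h ≫ (Over.pullback p).map u : X ⟶ Red.bc p G) := by
  rw [centAt_iff]
  let adj := Over.mapPullbackAdj p
  constructor
  · intro hc X g h
    obtain ⟨g₀, rfl⟩ := (adj.homEquiv X G).surjective g
    obtain ⟨h₀, rfl⟩ := (adj.homEquiv X H).surjective h
    exact (map_comm_iff u p g₀ h₀).2 (hc _ X.hom rfl g₀ h₀)
  · intro hc Y q hq g h
    let Y' : Over T := Over.mk q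
    let ε : (Over.map p).obj Y' ⟶ Y := Over.homMk (𝟙 Y.left) (by
      show 𝟙 Y.left ≫ Y.hom = q ≫ p
      rw [Category.id_comp, hq])
    haveI : IsIso ((Over.forget S).map ε) := inferInstanceAs (IsIso (𝟙 Y.left))
    haveI : IsIso ε := isIso_of_reflects_iso ε (Over.forget S)
    rw [← cancel_epi ε, MonObj.comp_mul, MonObj.comp_mul, ← Category.assoc]
    exact (map_comm_iff u p (ε ≫ g) (ε ≫ h)).1 (hc Y' _ _)

end Groth.Agent.CentLocus
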